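import Groth.Agent.GradedHilbLib.Components
import Groth.Agent.SMTLib.MaxHeight
import Groth.Prelude.Def_W4c2ratcurvhypCodim
import Mathlib

/-!
# Codimension of sets through coordinates
-/

set_option autoImplicit false
set_option linter.unusedSectionVars false
set_option linter.style.haveILetI false

universe u

open MvPolynomial

namespace FanoCodimLib

variable {k : Type u} [Field k]

theorem height_add_dim_fin (n : ℕ) (p : Ideal (MvPolynomial (Fin n) k)) [p.IsPrime] :
    ringKrullDim (MvPolynomial (Fin n) k ⧸ p) + (p.height : WithBot ℕ∞) = ((n : ℕ) : WithBot ℕ∞) := by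
  have hdim : ringKrullDim (MvPolynomial (Fin n) k) = ((n : ℕ) : WithBot ℕ∞) := by
    rw [MvPolynomial.ringKrullDim_of_isNoetherianRing, ringKrullDim_eq_zero_of_field, zero_add]
    simp
  refine le_antisymm (hdim ▸ J2Lib.ringKrullDim_quotient_add_height_le p) ?_
  have hcat : CAlg.IsCatenary (MvPolynomial (Fin n) k) := CatLib.isCatenary_of_isCMRing (CatLib.isCMRing_mvPolynomial
    CatLib.isCMRing_of_isRegularRing n)
  obtain ⟨M, hM, hpM⟩ := Ideal.exists_le_maximal p (Ideal.IsPrime.ne_top ‹_›)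
  let x : PrimeSpectrum (MvPolynomial (Fin n) k) := ⟨p, inferInstance⟩
  let y : PrimeSpectrum (MvPolynomial (Fin n) k) := ⟨M, hM.isPrime⟩
  obtain ⟨s, hs1, hs2, hsat, -⟩ := CatLib.exists_saturated (show x ≤ y from hpM)
    (CatLib.bounded_of_height CatLib.height_ne_top x y)
  have key : ∀ (j : ℕ) (hj : j < s.length + 1), (s ⟨j, hj⟩).asIdeal.height = p.height + j := by
    intro j
    induction j with
    | zero => intro hj; rw [show s ⟨0, hj⟩ = x from hs1]; simp [x]
    | succ j ih =>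
      intro hj
      have := CatLib.isCatenary_height_covBy hcat (hsat ⟨j, by omega⟩)
      rw [show (⟨j + 1, hj⟩ : Fin (s.length + 1)) = Fin.succ ⟨j, by omega⟩ from rfl, this,
        show Fin.castSucc ⟨j, _⟩ = (⟨j, by omega⟩ : Fin (s.length + 1)) from rfl, ih (by omega),
        Nat.cast_add, Nat.cast_one, add_assoc]
  have hy : M.height = p.height + s.length := by
    have := key s.length (Nat.lt_succ_self _)
    rwa [show s ⟨s.length, _⟩ = y from hs2] at this
  obtain ⟨t, htlen, -⟩ := CatLib.length_le_dim_quotient s p (by rw [hs1])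
  have hlen : ((s.length : ℕ∞) : WithBot ℕ∞) ≤ ringKrullDim (MvPolynomial (Fin n) k ⧸ p) :=
    htlen ▸ Order.LTSeries.length_le_krullDim t
  haveI := hM
  have hm := MaxHeight.mvPolynomial k n M
  rw [show ((n : ℕ) : WithBot ℕ∞) = (((n : ℕ) : ℕ∞) : WithBot ℕ∞) from rfl, ← hm, hy, WithBot.coe_add,
    add_comm (ringKrullDim (MvPolynomial (Fin n) k ⧸ p))]
  exact add_le_add le_rfl hlen

theorem transfer {R S : Type u} [CommRing R] [CommRing S] (e : R ≃+* S) (p : Ideal S) :
    ringKrullDim (R ⧸ p.comap e) = ringKrullDim (S ⧸ p) ∧ (p.comap e).height = p.height :=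
  ⟨ringKrullDim_eq_of_ringEquiv (Ideal.quotientEquiv _ _ e
    (Ideal.map_comap_of_surjective (e : R →+* S) e.surjective p).symm), e.height_comap p⟩

/-- Small dimension means large height. -/
theorem height_ge {σ : Type} [Fintype σ] (p : Ideal (MvPolynomial σ k)) [p.IsPrime] {c : ℕ}
    (h : ringKrullDim (MvPolynomial σ k ⧸ p) + (c : WithBot ℕ∞) ≤ ((Fintype.card σ : ℕ) : WithBot ℕ∞)) :
    (c : ℕ∞) ≤ p.height := by
  let e : MvPolynomial (Fin (Fintype.card σ)) k ≃+* MvPolynomial σ k := (renameEquiv k (Fintype.equivFin σ).symm).toRingEquiv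
  haveI : (p.comap e).IsPrime := Ideal.comap_isPrime _ p
  have h1 := height_add_dim_fin (Fintype.card σ) (p.comap e)
  have h2 := transfer e p
  rw [h2.1, h2.2] at h1
  obtain ⟨s, hs⟩ : ∃ s : ℕ∞, ringKrullDim (MvPolynomial σ k ⧸ p) = (s : WithBot ℕ∞) :=
    (WithBot.ne_bot_iff_exists.1 fun hb => by
      haveI : Nontrivial (MvPolynomial σ k ⧸ p) := Ideal.Quotient.nontrivial_iff.2 (Ideal.IsPrime.ne_top ‹_›)
      have := ringKrullDim_nonneg_of_nontrivial (R := MvPolynomial σ k ⧸ p)
      rw [hb] at this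
      exact absurd this (not_le.2 (WithBot.bot_lt_coe (0 : ℕ∞)))).imp fun _ => Eq.symm
  rw [hs] at h h1
  have h3 : s + c ≤ (Fintype.card σ : ℕ∞) := by exact_mod_cast h
  have h4 : s + p.height = (Fintype.card σ : ℕ∞) := by exact_mod_cast h1
  rw [← h4] at h3
  refine (ENat.add_le_add_iff_left ?_).1 h3
  intro hstop
  rw [hstop, top_add] at h4
  exact ENat.top_ne_natCast _ h4

/-- The ideal of polynomials vanishing on a set. -/
def zerosIdeal {σ : Type*} (D : Set (σ → k)) : Ideal (MvPolynomial σ k) where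
  carrier := {Φ | ∀ z ∈ D, eval z Φ = 0}
  zero_mem' := fun _ _ => map_zero _
  add_mem' := fun {a b} ha hb z hz => by rw [map_add, ha z hz, hb z hz, add_zero]
  smul_mem' := fun a b hb z hz => by rw [smul_eq_mul, map_mul, hb z hz, mul_zero]

/-- Codimension read in coordinates. -/
theorem codimGE_of_coords [Infinite k] {V : Type u} [AddCommGroup V] [Module k V] {σ : Type} [Fintype σ]
    (e : V ≃ₗ[k] (σ → k)) (D : Set V) (c : ℕ)
    (h : ∀ p : Ideal (MvPolynomial σ k), p.IsPrime → zerosIdeal (e '' D) ≤ p →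
      ringKrullDim (MvPolynomial σ k ⧸ p) + (c : WithBot ℕ∞) ≤ ((Fintype.card σ : ℕ) : WithBot ℕ∞)) :
    LefPen.CodimGE k D c := by
  classical
  let θ : MvPolynomial σ k →ₐ[k] (V → k) := AlgHom.pi fun v => aeval (e v)
  have hθ : ∀ Φ v, θ Φ v = eval (e v) Φ := fun Φ v => congrArg (fun f => f Φ) (aeval_eq_eval (e v))
  have hlin : ∀ l : Module.Dual k V, θ (∑ s, C (l (e.symm (Pi.single s 1))) * MvPolynomial.X s) = l := fun l => by
    funext v
    rw [hθ]
    conv_rhs => rw [← e.symm_apply_apply v, pi_eq_sum_univ' (e v)]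
    simp [map_sum, mul_comm]
  have hmem : ∀ Φ, θ Φ ∈ LefPen.polyFunAlg k V := fun Φ => by
    induction Φ using MvPolynomial.induction_on with
    | C a =>
      rw [show θ (C a) = algebraMap k _ a from θ.commutes a]
      exact Subalgebra.algebraMap_mem _ a
    | add p q hp hq => rw [map_add]; exact add_mem hp hq
    | mul_X p s hp =>
      rw [map_mul]
      refine mul_mem hp (Algebra.subset_adjoin ⟨(LinearMap.proj s).comp e.toLinearMap, funext fun v => ?_⟩)
      rw [hθ, eval_X]; rfl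
  let θ' : MvPolynomial σ k →+* ↥(LefPen.polyFunAlg k V) := (θ.codRestrict _ hmem).toRingHom
  have hbij : Function.Bijective θ' := by
    refine ⟨fun Φ Ψ hΦ => MvPolynomial.funext fun z => ?_, fun f => ?_⟩
    · have h1 : θ Φ (e.symm z) = θ Ψ (e.symm z) := congrFun (congrArg Subtype.val hΦ) (e.symm z)
      rwa [hθ, hθ, e.apply_symm_apply] at h1
    · suffices hf : f.1 ∈ θ.range by
        obtain ⟨Φ, hΦ⟩ := (AlgHom.mem_range θ).1 hf
        exact ⟨Φ, Subtype.ext hΦ⟩
      refine (Algebra.adjoin_le ?_ : LefPen.polyFunAlg k V ≤ θ.range) f.2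
      rintro _ ⟨l, rfl⟩
      exact (AlgHom.mem_range θ).2 ⟨_, hlin l⟩
  let eq := RingEquiv.ofBijective θ' hbij
  show (c : ℕ∞) ≤ (LefPen.vanishingFun k D).height
  rw [← RingEquiv.height_comap eq]
  rw [Ideal.height_eq_inf_minimalPrimes]
  refine le_iInf₂ fun p hp => ?_
  haveI := hp.1.1
  refine height_ge p (h p inferInstance fun Φ hΦ => hp.1.2 ?_)
  intro v hv
  exact (hθ Φ v).trans (hΦ _ ⟨v, hv, rfl⟩)

end FanoCodimLib
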