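import Groth.Agent.LefPenLib.Rigid
import Groth.Agent.SMTLib.MaxHeight
import Mathlib

/-!
# Few equations have many zeros
-/

set_option autoImplicit false
set_option linter.unusedSectionVars false
set_option linter.style.haveILetI false

universe u

open MvPolynomial

namespace FanoCodimLib

variable {k : Type u} [Field k] [IsAlgClosed k]

/-- Fewer equations than variables, all vanishing at a point, vanish at another point. -/
theorem exists_other_zero {m s : ℕ} (hs : s < m) (g : Fin s → MvPolynomial (Fin m) k) (h0 : ∀ i, eval 0 (g i) = 0) :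
    ∃ t : Fin m → k, t ≠ 0 ∧ ∀ i, eval t (g i) = 0 := by
  classical
  set M0 : Ideal (MvPolynomial (Fin m) k) := RingHom.ker (eval (0 : Fin m → k))
  haveI : M0.IsMaximal := RingHom.ker_isMaximal_of_surjective _ fun a => ⟨C a, eval_C a⟩
  have hle : Ideal.span (Set.range g) ≤ M0 := Ideal.span_le.2 (by rintro _ ⟨i, rfl⟩; exact h0 i)
  obtain ⟨P, hP, hPle⟩ := Ideal.exists_minimalPrimes_le hle
  haveI := hP.1.1
  have hne : P ≠ M0 := fun h => by
    have h1 : P.height ≤ s := (Ideal.height_le_spanRank_toENat_of_mem_minimalPrimes _ P hP).trans (by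
      refine le_trans (OrderHomClass.mono _ (Submodule.spanRank_span_le_card _)) ?_
      rw [Cardinal.mk_fintype, map_natCast, Nat.cast_le]
      simpa using Fintype.card_range_le g)
    have h2 := MaxHeight.mvPolynomial k m M0
    rw [h] at h1
    have h3 : ((m : ℕ) : ℕ∞) ≤ (s : ℕ∞) := le_trans (le_of_eq (by exact_mod_cast h2.symm)) h1
    have : m ≤ s := by exact_mod_cast h3
    omega
  by_contra hall
  push Not at hall
  refine hne (le_antisymm hPle ?_)
  have hjac : P.jacobson = P := IsJacobsonRing.out inferInstance (Ideal.IsPrime.isRadical inferInstance)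
  rw [← hjac, Ideal.jacobson]
  refine le_sInf fun M hM => ?_
  obtain ⟨hPM, hMmax⟩ := hM
  obtain ⟨v, rfl⟩ := isMaximal_iff_eq_vanishingIdeal_singleton.1 hMmax
  have hv : v = 0 := by
    by_contra hv
    obtain ⟨i, hi⟩ := hall v hv
    have := hPM (hP.1.2 (Ideal.subset_span ⟨i, rfl⟩))
    rw [mem_vanishingIdeal_singleton_iff, aeval_eq_eval] at this
    exact hi this
  subst hv
  intro x hx
  rw [mem_vanishingIdeal_singleton_iff, aeval_eq_eval]
  exact hx

/-- A smooth hypersurface contains linear spaces of at most half the dimension. -/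
theorem two_mul_finrank_le {n d : ℕ} (hd : 2 ≤ d) (f : MvPolynomial (Fin (n + 1)) k) (hf : f.IsHomogeneous d)
    (U : Submodule k (Fin (n + 1) → k)) (hU : ∀ u ∈ U, eval u f = 0)
    (hsm : ∀ u ∈ U, u ≠ 0 → ∃ i : Fin (n + 1), eval u (pderiv i f) ≠ 0) :
    2 * Module.finrank k U ≤ n + 1 := by
  classical
  by_contra hlt
  obtain ⟨W, hW⟩ := U.exists_isCompl
  have hs := Submodule.finrank_add_eq_of_isCompl hW
  rw [Module.finrank_fin_fun] at hs
  let b := Module.finBasis k U
  let cW := Module.finBasis k W
  let par : Fin (n + 1) → MvPolynomial (Fin (Module.finrank k U)) k := fun q =>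
    ∑ i, C ((b i : Fin (n + 1) → k) q) * X i
  have hpar : ∀ t, (fun q => eval t (par q)) = ((∑ i, t i • b i : U) : Fin (n + 1) → k) := fun t => funext fun q => by
    simp [par, mul_comm]
  have hpt : ∀ P t, eval t (aeval par P) = eval ((∑ i, t i • b i : U) : Fin (n + 1) → k) P := fun P t => by
    rw [← hpar, ← aeval_eq_eval, comp_aeval_apply]; rfl
  have hfU : aeval par f = 0 := MvPolynomial.funext fun t => by rw [hpt, map_zero]; exact hU _ (Subtype.coe_prop _)
  let g : Fin (Module.finrank k W) → MvPolynomial (Fin (Module.finrank k U)) k := fun i =>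
    ∑ q, C ((cW i : Fin (n + 1) → k) q) * aeval par (pderiv q f)
  obtain ⟨t, ht, hg⟩ := exists_other_zero (s := Module.finrank k W) (by omega) g fun i => by
    simp only [g, map_sum, map_mul, eval_C, hpt]
    refine Finset.sum_eq_zero fun q _ => ?_
    rw [show ((∑ i, (0 : Fin (Module.finrank k U) → k) i • b i : U) : Fin (n + 1) → k) = 0 by simp,
      MvPolynomial.eval_zero, constantCoeff_eq, (hf.pderiv (i := q)).coeff_eq_zero (by simp; omega)]
    simp
  set u : U := ∑ i, t i • b i with hu
  have hu0 : (u : Fin (n + 1) → k) ≠ 0 := fun h => ht (funext fun i => by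
    have h1 := congrArg (fun w : U => b.repr w i) (Subtype.ext h : u = 0)
    simpa [hu, map_sum, Finsupp.single_apply] using h1)
  -- the derivatives along the subspace vanish
  have hin : ∀ u' : U, ∑ q, (u' : Fin (n + 1) → k) q * eval (u : Fin (n + 1) → k) (pderiv q f) = 0 := fun u' => by
    let z : Fin (Module.finrank k U) → DualNumber k := fun i =>
      TrivSqZeroExt.inl (t i) + TrivSqZeroExt.inr (b.repr u' i)
    have h1 := congrArg (fun P => TrivSqZeroExt.snd (aeval z P)) hfU
    simp only [map_zero, TrivSqZeroExt.snd_zero] at h1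
    rw [comp_aeval_apply, (LefPenLib.snd_aeval _ _).2] at h1
    rw [← h1]
    have hb' : ∀ q, (u' : Fin (n + 1) → k) q = ∑ i, b.repr u' i * (b i : Fin (n + 1) → k) q := fun q => by
      have h := congrArg (fun w : U => (w : Fin (n + 1) → k) q) (b.sum_repr u')
      simp only [Submodule.coe_sum, Finset.sum_apply, Submodule.coe_smul, Pi.smul_apply, smul_eq_mul] at h
      exact h.symm
    refine Finset.sum_congr rfl fun q _ => ?_
    have hfst : ∀ q, TrivSqZeroExt.fst (aeval z (par q)) = (u : Fin (n + 1) → k) q := fun q => by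
      rw [show (u : Fin (n + 1) → k) q = _ from (congrFun (hpar t) q).symm]
      simp [par, z, map_sum, TrivSqZeroExt.fst_sum, Algebra.algebraMap_eq_smul_one]
    have hsnd : TrivSqZeroExt.snd (aeval z (par q)) = (u' : Fin (n + 1) → k) q := by
      rw [hb']
      simp [par, z, map_sum, TrivSqZeroExt.snd_sum, Algebra.algebraMap_eq_smul_one, mul_comm]
    rw [hsnd, funext hfst, mul_comm]
  obtain ⟨i, hi⟩ := hsm u u.2 hu0
  refine hi ?_
  let L : (Fin (n + 1) → k) →ₗ[k] k := ∑ q, eval (u : Fin (n + 1) → k) (pderiv q f) • LinearMap.proj q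
  have hL : ∀ w, L w = ∑ q, w q * eval (u : Fin (n + 1) → k) (pderiv q f) := fun w => by simp [L, mul_comm]
  have hWz : W ≤ LinearMap.ker L := by
    intro w hw
    have h := congrArg Subtype.val (cW.sum_repr ⟨w, hw⟩)
    simp only [Submodule.coe_sum, Submodule.coe_smul] at h
    rw [LinearMap.mem_ker, ← h, map_sum]
    refine Finset.sum_eq_zero fun i _ => ?_
    have h2 := hg i
    simp only [g, map_sum, map_mul, eval_C, hpt] at h2
    rw [map_smul, hL, h2, smul_zero]
  have htop : (⊤ : Submodule k (Fin (n + 1) → k)) ≤ LinearMap.ker L := by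
    rw [← hW.sup_eq_top]
    exact sup_le (fun w hw => LinearMap.mem_ker.2 ((hL w).trans (hin ⟨w, hw⟩))) hWz
  have := LinearMap.mem_ker.1 (htop (Submodule.mem_top (x := Pi.single i 1)))
  rw [hL] at this
  simpa [Pi.single_apply] using this

end FanoCodimLib
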