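import Groth.Agent.FanoCodimLib.Hilbert
import Groth.Agent.CIGenLib.Elim
import Groth.Agent.LefPenLib.Closed
import Groth.Agent.LefPenLib.Jets
import Groth.Agent.SMTLib.MaxHeight
import Mathlib

/-!
# Dimension of cones by linear sections
-/

set_option autoImplicit false
set_option linter.unusedSectionVars false
set_option linter.style.haveILetI false

universe u

open MvPolynomial

namespace FanoCodimLib

variable {k : Type u} [Field k] [IsAlgClosed k] {m : ℕ}

/-- No common nonzero zero with a set of linear forms. -/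
def NoZero {ι : Type} (g : ι → MvPolynomial (Fin (m + 1)) k) {e : ℕ} (L : Fin e → Fin (m + 1) → k) : Prop :=
  ∀ v : Fin (m + 1) → k, (∀ i, eval v (g i) = 0) → (∀ b, LefPenLib.dotV v (L b) = 0) → v = 0

/-- `e` linear forms cut the common zeros down to the origin. -/
def Sep {ι : Type} (g : ι → MvPolynomial (Fin (m + 1)) k) (e : ℕ) : Prop :=
  ∃ L : Fin e → Fin (m + 1) → k, NoZero g L

theorem span_le_origin {ι : Type} {g : ι → MvPolynomial (Fin (m + 1)) k} {deg : ι → ℕ}
    (hg : ∀ i, (g i).IsHomogeneous (deg i)) (hpos : ∀ i, 0 < deg i) :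
    Ideal.span (Set.range g) ≤ RingHom.ker (eval (0 : Fin (m + 1) → k)) := by
  refine Ideal.span_le.2 ?_
  rintro _ ⟨i, rfl⟩
  show eval 0 (g i) = 0
  rw [eval_zero, constantCoeff_eq, (hg i).coeff_eq_zero (by simp; exact (hpos i).ne)]

/-- Minimal primes over forms pass through the origin. -/
theorem minimalPrime_le_origin {ι : Type} {g : ι → MvPolynomial (Fin (m + 1)) k} {deg : ι → ℕ}
    (hg : ∀ i, (g i).IsHomogeneous (deg i)) {P : Ideal (MvPolynomial (Fin (m + 1)) k)}
    (hP : P ∈ (Ideal.span (Set.range g)).minimalPrimes) : P ≤ RingHom.ker (eval (0 : Fin (m + 1) → k)) := by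
  haveI := hP.1.1
  have hI : (Ideal.span (Set.range g)).IsHomogeneous (homogeneousSubmodule (Fin (m + 1)) k) :=
    Ideal.homogeneous_span _ _ (by rintro _ ⟨i, rfl⟩; exact ⟨deg i, (mem_homogeneousSubmodule _ _).2 (hg i)⟩)
  have hPh : P.IsHomogeneous (homogeneousSubmodule (Fin (m + 1)) k) := by
    have h1 : Ideal.span (Set.range g) ≤ (P.homogeneousCore (homogeneousSubmodule (Fin (m + 1)) k)).toIdeal := by
      rw [← hI.toIdeal_homogeneousCore_eq_self]
      exact Ideal.homogeneousCore_mono _ hP.1.2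
    have h2 := P.toIdeal_homogeneousCore_le (homogeneousSubmodule (Fin (m + 1)) k)
    rw [le_antisymm (hP.2 ⟨hP.1.1.homogeneousCore, h1⟩ h2) h2]
    exact HomogeneousIdeal.isHomogeneous _
  intro f hf
  show eval 0 f = 0
  by_contra h
  have h0 := hPh 0 hf
  rw [show (DirectSum.decompose (homogeneousSubmodule (Fin (m + 1)) k) f 0 : MvPolynomial (Fin (m + 1)) k) =
    homogeneousComponent 0 f from decomposition.decompose'_apply _ _, homogeneousComponent_zero] at h0
  rw [eval_zero, constantCoeff_eq] at h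
  exact Ideal.IsPrime.ne_top ‹_› (Ideal.eq_top_of_isUnit_mem _ h0 ((isUnit_iff_ne_zero.2 h).map C))

theorem dim_quotient_le {σ : Type} [Fintype σ] (I : Ideal (MvPolynomial σ k)) {e : WithBot ℕ∞}
    (h : ∀ P ∈ I.minimalPrimes, ringKrullDim (MvPolynomial σ k ⧸ P) ≤ e) : ringKrullDim (MvPolynomial σ k ⧸ I) ≤ e := by
  rw [ringKrullDim_quotient, Order.krullDim]
  refine iSup_le fun l => ?_
  obtain ⟨P, hP, hPle⟩ := Ideal.exists_minimalPrimes_le (J := l.head.1.asIdeal) l.head.2
  haveI := hP.1.1
  refine le_trans ?_ (h P hP)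
  rw [ringKrullDim_quotient]
  let l' : LTSeries (PrimeSpectrum.zeroLocus (R := MvPolynomial σ k) (P : Set (MvPolynomial σ k))) :=
    ⟨l.length, fun i => ⟨(l i).1, fun x hx => (l.head_le i : l.head ≤ l i) (hPle hx)⟩, fun i => l.step i⟩
  exact Order.LTSeries.length_le_krullDim l'

/-- Dimension at most the number of linear forms. -/
theorem dim_le_of_noZero {ι : Type} {g : ι → MvPolynomial (Fin (m + 1)) k} {deg : ι → ℕ}
    (hg : ∀ i, (g i).IsHomogeneous (deg i)) {e : ℕ} {L : Fin e → Fin (m + 1) → k} (hL : NoZero g L) :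
    ringKrullDim (MvPolynomial (Fin (m + 1)) k ⧸ Ideal.span (Set.range g)) ≤ (e : WithBot ℕ∞) := by
  classical
  refine dim_quotient_le _ fun P hP => ?_
  haveI := hP.1.1
  set M0 : Ideal (MvPolynomial (Fin (m + 1)) k) := RingHom.ker (eval 0)
  haveI : M0.IsMaximal := RingHom.ker_isMaximal_of_surjective _ fun a => ⟨C a, eval_C a⟩
  have hPM : P ≤ M0 := minimalPrime_le_origin hg hP
  haveI : IsDomain (MvPolynomial (Fin (m + 1)) k ⧸ P) := Ideal.Quotient.isDomain _
  let π := Ideal.Quotient.mk P
  haveI hmP : (M0.map π).IsMaximal :=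
    Ideal.IsMaximal.map_of_surjective_of_ker_le Ideal.Quotient.mk_surjective (by rwa [Ideal.mk_ker])
  rw [← MaxHeight.affine_domain k (MvPolynomial (Fin (m + 1)) k ⧸ P) (M0.map π)]
  let lb : Fin e → MvPolynomial (Fin (m + 1)) k ⧸ P := fun b => π (CIGen.lin (L b))
  have hzero : ∀ v, P ≤ RingHom.ker (eval v) → (∀ b, eval v (CIGen.lin (L b)) = 0) → v = 0 := fun v hv hb =>
    hL v (fun i => hv (hP.1.2 (Ideal.subset_span ⟨i, rfl⟩))) fun b => by rw [← LefPenLib.eval_lin]; exact hb b
  have hle : Ideal.span (Set.range lb) ≤ M0.map π := Ideal.span_le.2 (by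
    rintro _ ⟨b, rfl⟩
    exact Ideal.mem_map_of_mem _ (RingHom.mem_ker.2 (by rw [LefPenLib.eval_lin, LefPenLib.dotV_apply]; simp)))
  obtain ⟨Q, hQ, hQle⟩ := Ideal.exists_minimalPrimes_le hle
  haveI := hQ.1.1
  have hQM : Q = M0.map π := by
    refine le_antisymm hQle (Ideal.map_le_iff_le_comap.2 ?_)
    have hjac : (Q.comap π).jacobson = Q.comap π := IsJacobsonRing.out inferInstance (Ideal.IsPrime.isRadical inferInstance)
    rw [← hjac, Ideal.jacobson]
    refine le_sInf fun M hM => ?_
    obtain ⟨hQM', hMmax⟩ := hM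
    obtain ⟨v, rfl⟩ := isMaximal_iff_eq_vanishingIdeal_singleton.1 hMmax
    have hker : ∀ f ∈ Q.comap π, eval v f = 0 := fun f hf => by
      have := hQM' hf
      rwa [mem_vanishingIdeal_singleton_iff, aeval_eq_eval] at this
    have hv : v = 0 := hzero v
      (fun f hf => hker f (by show π f ∈ Q; rw [show π f = 0 from Ideal.Quotient.eq_zero_iff_mem.2 hf]; exact Q.zero_mem))
      (fun b => hker _ (hQ.1.2 (Ideal.subset_span ⟨b, rfl⟩)))
    subst hv
    intro x hx
    rw [mem_vanishingIdeal_singleton_iff, aeval_eq_eval]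
    exact hx
  rw [← hQM]
  have h1 : Q.height ≤ e := (Ideal.height_le_spanRank_toENat_of_mem_minimalPrimes _ Q hQ).trans (by
    refine le_trans (OrderHomClass.mono _ (Submodule.spanRank_span_le_card _)) ?_
    rw [Cardinal.mk_fintype, map_natCast, Nat.cast_le]
    simpa using Fintype.card_range_le lb)
  exact_mod_cast h1

/-- A maximal ideal above a prime lowers the dimension. -/
theorem succ_dim_le {σ : Type} [Fintype σ] {P Q : Ideal (MvPolynomial σ k)} [P.IsPrime] (hPQ : P ≤ Q)
    {f : MvPolynomial σ k} (hfQ : f ∈ Q) (hfP : f ∉ P) :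
    ringKrullDim (MvPolynomial σ k ⧸ Q) + 1 ≤ ringKrullDim (MvPolynomial σ k ⧸ P) := by
  haveI : IsDomain (MvPolynomial σ k ⧸ P) := Ideal.Quotient.isDomain _
  exact ringKrullDim_succ_le_of_surjective (Ideal.Quotient.factor hPQ) (Ideal.Quotient.factor_surjective _)
    (mem_nonZeroDivisors_of_ne_zero (fun h => hfP (Ideal.Quotient.eq_zero_iff_mem.1 h) : Ideal.Quotient.mk P f ≠ 0))
    (by rwa [Ideal.Quotient.factor_mk, Ideal.Quotient.eq_zero_iff_mem])

theorem zero_only_of_dim_zero {ι : Type} {g : ι → MvPolynomial (Fin (m + 1)) k} {deg : ι → ℕ}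
    (hg : ∀ i, (g i).IsHomogeneous (deg i))
    (h : ringKrullDim (MvPolynomial (Fin (m + 1)) k ⧸ Ideal.span (Set.range g)) ≤ ((0 : ℕ) : WithBot ℕ∞))
    {v : Fin (m + 1) → k} (hv : ∀ i, eval v (g i) = 0) : v = 0 := by
  classical
  by_contra hv0
  obtain ⟨q, hq⟩ := Function.ne_iff.1 hv0
  have hfin := (Ideal.span (Set.range g)).finite_minimalPrimes_of_isNoetherianRing
  haveI := hfin.fintype
  have key : ∀ s : k, ∃ P ∈ (Ideal.span (Set.range g)).minimalPrimes, P = RingHom.ker (eval (s • v)) := fun s => by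
    have hle : Ideal.span (Set.range g) ≤ RingHom.ker (eval (s • v)) := Ideal.span_le.2 (by
      rintro _ ⟨i, rfl⟩
      show eval (fun a => s * v a) (g i) = 0
      rw [CIGen.eval_smul_of_homogeneous (hg i), hv i, mul_zero])
    haveI : (RingHom.ker (eval (s • v))).IsPrime := RingHom.ker_isPrime _
    obtain ⟨P, hP, hPle⟩ := Ideal.exists_minimalPrimes_le hle
    haveI := hP.1.1
    refine ⟨P, hP, le_antisymm hPle fun f hf => by_contra fun hfP => ?_⟩
    have h1 := succ_dim_le hPle hf hfP
    have h2 : ringKrullDim (MvPolynomial (Fin (m + 1)) k ⧸ P) ≤ ((0 : ℕ) : WithBot ℕ∞) :=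
      le_trans (ringKrullDim_le_of_surjective (Ideal.Quotient.factor hP.1.2) (Ideal.Quotient.factor_surjective _)) h
    haveI : Nontrivial (MvPolynomial (Fin (m + 1)) k ⧸ RingHom.ker (eval (s • v))) :=
      Ideal.Quotient.nontrivial_iff.2 (Ideal.IsPrime.ne_top inferInstance)
    have h3 : (0 : WithBot ℕ∞) + 1 ≤ ((0 : ℕ) : WithBot ℕ∞) :=
      le_trans (le_trans (add_le_add ringKrullDim_nonneg_of_nontrivial le_rfl) h1) h2
    have : (1 : ℕ) ≤ 0 := by exact_mod_cast h3
    omega
  choose P hP hPe using key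
  have hinj : Function.Injective fun s : k => (⟨P s, hP s⟩ : (Ideal.span (Set.range g)).minimalPrimes) := fun s t hst => by
    have h1 : RingHom.ker (eval (s • v)) = RingHom.ker (eval (t • v)) := by
      rw [← hPe, ← hPe]; exact congrArg Subtype.val hst
    have h2 : MvPolynomial.X q - C (s * v q) ∈ RingHom.ker (eval (s • v)) := RingHom.mem_ker.2 (by simp)
    rw [h1, RingHom.mem_ker] at h2
    simp [sub_eq_zero] at h2
    exact (h2.resolve_right hq).symm
  exact (Finite.of_injective _ hinj).false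

/-- Small dimension is witnessed by linear forms. -/
theorem sep_of_dim_le : ∀ {e : ℕ} {ι : Type} {g : ι → MvPolynomial (Fin (m + 1)) k} {deg : ι → ℕ},
    (∀ i, (g i).IsHomogeneous (deg i)) →
    ringKrullDim (MvPolynomial (Fin (m + 1)) k ⧸ Ideal.span (Set.range g)) ≤ (e : WithBot ℕ∞) → Sep g e := by
  classical
  intro e
  induction e with
  | zero => exact fun hg h => ⟨Fin.elim0, fun v hv _ => zero_only_of_dim_zero hg h hv⟩
  | succ e ih =>
    intro ι g deg hg h
    set I := Ideal.span (Set.range g) with hI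
    haveI := I.finite_minimalPrimes_of_isNoetherianRing.fintype
    -- a linear form outside the components which are not the origin
    have key : ∀ P : I.minimalPrimes, ∃ ψ : MvPolynomial (Fin (m + 1)) k, ψ ≠ 0 ∧
        ∀ a, eval a ψ ≠ 0 → (∀ b, CIGen.lin b ∈ P.1) ∨ CIGen.lin a ∉ P.1 := fun P => by
      by_cases hall : ∀ b, CIGen.lin b ∈ P.1
      · exact ⟨1, one_ne_zero, fun a _ => Or.inl hall⟩
      push Not at hall
      obtain ⟨b, hb⟩ := hall
      have hlin : ∀ a a' : Fin (m + 1) → k, CIGen.lin (a + a') = CIGen.lin a + CIGen.lin a' := fun a a' => by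
        simp [CIGen.lin, add_mul, Finset.sum_add_distrib]
      let S : Submodule k (Fin (m + 1) → k) :=
        { carrier := {a | CIGen.lin a ∈ P.1}
          zero_mem' := by show CIGen.lin 0 ∈ P.1; simp [CIGen.lin]
          add_mem' := fun {a a'} ha ha' => by show CIGen.lin (a + a') ∈ P.1; rw [hlin]; exact P.1.add_mem ha ha'
          smul_mem' := fun c a ha => by
            show CIGen.lin (c • a) ∈ P.1
            rw [show CIGen.lin (c • a) = C c * CIGen.lin a by simp [CIGen.lin, Finset.mul_sum, mul_assoc]]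
            exact P.1.mul_mem_left _ ha }
      obtain ⟨φ, hφ, hker⟩ := S.exists_le_ker_of_notMem (show b ∉ S from hb)
      refine ⟨CIGen.lin fun q => φ (Pi.single q 1), fun h0 => hφ ?_, fun a ha => Or.inr fun hmem => ha ?_⟩ <;>
        [have he := congrArg (eval b) h0; skip]
      · rw [LefPenLib.eval_lin, LefPenLib.dotV_apply, map_zero] at he
        rw [← he]
        conv_lhs => rw [pi_eq_sum_univ' b]
        simp [map_sum]
      · rw [LefPenLib.eval_lin, LefPenLib.dotV_apply, ← show φ a = 0 from hker hmem]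
        conv_rhs => rw [pi_eq_sum_univ' a]
        simp [map_sum]
    choose ψ hψ0 hψ using key
    obtain ⟨a, ha⟩ : ∃ a, eval a (∏ P, ψ P) ≠ 0 := by
      by_contra hh
      push Not at hh
      exact Finset.prod_ne_zero_iff.2 (fun P _ => hψ0 P) (MvPolynomial.funext fun a => by rw [hh a, map_zero])
    simp only [map_prod, Finset.prod_ne_zero_iff, Finset.mem_univ, forall_true_left] at ha
    let g' : Option ι → MvPolynomial (Fin (m + 1)) k := fun o => o.elim (CIGen.lin a) g
    have hg' : ∀ o, (g' o).IsHomogeneous (o.elim 1 deg) := fun o => match o with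
      | none => show (CIGen.lin a).IsHomogeneous 1 from
          IsHomogeneous.sum _ _ _ fun q _ => by simpa using (isHomogeneous_C _ (a q)).mul (isHomogeneous_X k q)
      | some i => hg i
    obtain ⟨L, hL⟩ := ih hg' (dim_quotient_le _ fun Q hQ => by
      haveI := hQ.1.1
      have hIQ : I ≤ Q := le_trans (Ideal.span_mono (by rintro _ ⟨i, rfl⟩; exact ⟨some i, rfl⟩)) hQ.1.2
      obtain ⟨P, hP, hPQ⟩ := Ideal.exists_minimalPrimes_le hIQ
      haveI := hP.1.1
      rcases hψ ⟨P, hP⟩ a (ha ⟨P, hP⟩) with hall | hnot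
      · -- the origin
        haveI : Q.IsMaximal := by
          haveI : (RingHom.ker (eval (0 : Fin (m + 1) → k))).IsMaximal :=
            RingHom.ker_isMaximal_of_surjective _ fun c => ⟨C c, eval_C c⟩
          have hM : RingHom.ker (eval (0 : Fin (m + 1) → k)) ≤ P := fun f hf => by
            have hspan : f ∈ Ideal.span (Set.range (MvPolynomial.X : Fin (m + 1) → MvPolynomial (Fin (m + 1)) k)) := by
              show f ∈ idealOfVars (Fin (m + 1)) k
              rw [← pow_one (idealOfVars (Fin (m + 1)) k), mem_pow_idealOfVars_iff']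
              intro x hx
              rw [(Finsupp.degree_eq_zero_iff x).1 (Nat.lt_one_iff.1 hx)]
              rwa [RingHom.mem_ker, eval_zero, constantCoeff_eq] at hf
            refine (Ideal.span_le.2 ?_ : _ ≤ P) hspan
            rintro _ ⟨q, rfl⟩
            simpa [CIGen.lin, Pi.single_apply] using hall (Pi.single q 1)
          rw [← Ideal.IsMaximal.eq_of_le ‹_› (Ideal.IsPrime.ne_top inferInstance) (hM.trans hPQ)]
          infer_instance
        letI := Ideal.Quotient.field Q
        rw [ringKrullDim_eq_zero_of_field]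
        exact_mod_cast Nat.zero_le e
      · have h1 := succ_dim_le hPQ (hQ.1.2 (Ideal.subset_span ⟨none, rfl⟩)) hnot
        have h2 : ringKrullDim (MvPolynomial (Fin (m + 1)) k ⧸ P) ≤ ((e + 1 : ℕ) : WithBot ℕ∞) :=
          le_trans (ringKrullDim_le_of_surjective (Ideal.Quotient.factor hP.1.2) (Ideal.Quotient.factor_surjective _)) h
        have h3 := le_trans h1 h2
        rw [Nat.cast_add, Nat.cast_one] at h3
        exact ENat.WithBot.add_le_add_one_right_iff.1 h3)
    refine ⟨Fin.cons a L, fun v hv hb => hL v (fun o => ?_) fun b => ?_⟩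
    · rcases o with _ | i
      · show eval v (CIGen.lin a) = 0
        rw [LefPenLib.eval_lin]
        simpa using hb 0
      · exact hv i
    · simpa using hb b.succ

/-- One more equation outside the big components cuts once. -/
theorem sep_option {ι : Type} {g : ι → MvPolynomial (Fin (m + 1)) k} {deg : ι → ℕ}
    (hg : ∀ i, (g i).IsHomogeneous (deg i)) {e : ℕ} (hsep : Sep g (e + 1))
    {G : MvPolynomial (Fin (m + 1)) k} {dG : ℕ} (hG : G.IsHomogeneous dG)
    (hout : ∀ P ∈ (Ideal.span (Set.range g)).minimalPrimes,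
      ringKrullDim (MvPolynomial (Fin (m + 1)) k ⧸ P) = ((e + 1 : ℕ) : WithBot ℕ∞) → G ∉ P) :
    Sep (fun o : Option ι => o.elim G g) e := by
  obtain ⟨L, hL⟩ := hsep
  have hdim := dim_le_of_noZero hg hL
  refine sep_of_dim_le (deg := fun o => o.elim dG deg) (fun o => match o with | none => hG | some i => hg i)
    (dim_quotient_le _ fun Q hQ => ?_)
  haveI := hQ.1.1
  have hIQ : Ideal.span (Set.range g) ≤ Q := le_trans (Ideal.span_mono (by rintro _ ⟨i, rfl⟩; exact ⟨some i, rfl⟩)) hQ.1.2
  obtain ⟨P, hP, hPQ⟩ := Ideal.exists_minimalPrimes_le hIQ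
  haveI := hP.1.1
  have hPd := le_trans (ringKrullDim_le_of_surjective (Ideal.Quotient.factor hP.1.2) (Ideal.Quotient.factor_surjective _)) hdim
  obtain ⟨s, hs, -⟩ := WeilLib.dim_eq_trdeg k (MvPolynomial (Fin (m + 1)) k ⧸ P) (FractionRing (MvPolynomial (Fin (m + 1)) k ⧸ P))
  rw [hs] at hPd
  have hs' : s ≤ e + 1 := by exact_mod_cast hPd
  have hQP := ringKrullDim_le_of_surjective (Ideal.Quotient.factor hPQ) (Ideal.Quotient.factor_surjective hPQ)
  rcases lt_or_eq_of_le hs' with hlt | rfl
  · refine hQP.trans ?_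
    rw [hs]
    exact_mod_cast Nat.lt_succ_iff.1 hlt
  · have h1 := succ_dim_le hPQ (hQ.1.2 (Ideal.subset_span ⟨none, rfl⟩)) (hout P hP hs)
    rw [hs, Nat.cast_add, Nat.cast_one] at h1
    exact ENat.WithBot.add_le_add_one_right_iff.1 h1

end FanoCodimLib
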