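import Groth.Agent.WeilLib.Dim
import Mathlib

/-!
# A set whose fibres lie in few linear subspaces is small
-/

set_option autoImplicit false
set_option linter.unusedSectionVars false
set_option linter.style.haveILetI false

universe u

open MvPolynomial

namespace FanoCodimLib

variable {k : Type u} [Field k] [IsAlgClosed k]

theorem exists_point_of_isMaximal {A : Type u} [CommRing A] [Algebra k A] [Algebra.FiniteType k A]
    (m : Ideal A) [m.IsMaximal] : ∃ ψ : A →ₐ[k] k, RingHom.ker ψ.toRingHom = m := by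
  letI := Ideal.Quotient.field m
  haveI : Algebra.FiniteType k (A ⧸ m) := .of_surjective (Ideal.Quotient.mkₐ k m) Ideal.Quotient.mk_surjective
  haveI := finite_of_finite_type_of_isJacobsonRing k (A ⧸ m)
  have hb := IsAlgClosed.algebraMap_bijective_of_isIntegral (k := k) (K := A ⧸ m)
  let e : k ≃ₐ[k] A ⧸ m := AlgEquiv.ofBijective (Algebra.ofId k (A ⧸ m)) hb
  refine ⟨e.symm.toAlgHom.comp (Ideal.Quotient.mkₐ k m), ?_⟩
  ext a
  show e.symm (Ideal.Quotient.mk m a) = 0 ↔ a ∈ m
  rw [EmbeddingLike.map_eq_zero_iff, Ideal.Quotient.eq_zero_iff_mem]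

theorem exists_point_ne_zero {A : Type u} [CommRing A] [IsDomain A] [Algebra k A] [Algebra.FiniteType k A] {a : A} (ha : a ≠ 0) :
    ∃ ψ : A →ₐ[k] k, ψ a ≠ 0 := by
  haveI : IsJacobsonRing A := isJacobsonRing_of_finiteType (A := k)
  have hjac : (⊥ : Ideal A).jacobson = ⊥ := IsJacobsonRing.out inferInstance (Ideal.IsPrime.isRadical Ideal.isPrime_bot)
  obtain ⟨M, hM, haM⟩ : ∃ M : Ideal A, M.IsMaximal ∧ a ∉ M := by
    by_contra h
    push Not at h
    refine ha (Ideal.mem_bot.1 (hjac ▸ ?_))
    rw [Ideal.jacobson, Ideal.mem_sInf]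
    exact fun J hJ => h J hJ.2
  obtain ⟨ψ, hψ⟩ := exists_point_of_isMaximal (k := k) M
  exact ⟨ψ, fun h => haM (hψ ▸ h)⟩

/-- Generic surjectivity on points. -/
theorem exists_extend_point {C D : Type u} [CommRing C] [CommRing D] [Algebra k C] [Algebra k D]
    [Algebra.FiniteType k C] [Algebra.FiniteType k D] [IsDomain D] (ι : C →ₐ[k] D)
    (hι : Function.Injective ι) :
    ∃ g : C, g ≠ 0 ∧ ∀ χ : C →ₐ[k] k, χ g ≠ 0 → ∃ ψ : D →ₐ[k] k, ψ.comp ι = χ := by
  letI := ι.toRingHom.toAlgebra
  haveI : IsScalarTower k C D := IsScalarTower.of_algebraMap_eq fun c => (ι.commutes c).symm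
  haveI : IsNoetherianRing C := Algebra.FiniteType.isNoetherianRing k C
  haveI : Algebra.FiniteType C D := .of_restrictScalars_finiteType k C D
  have hfp : ι.toRingHom.FinitePresentation := Algebra.FinitePresentation.of_finiteType.1 ‹_›
  obtain ⟨S, hS⟩ := PrimeSpectrum.exists_constructibleSetData_iff.2 (PrimeSpectrum.isConstructible_range_comap hfp)
  haveI : IsDomain C := hι.isDomain ι.toRingHom
  have h0 : (⟨⊥, Ideal.isPrime_bot⟩ : PrimeSpectrum C) ∈ S.toSet := by
    rw [hS]
    refine ⟨⟨⊥, Ideal.isPrime_bot⟩, PrimeSpectrum.ext ?_⟩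
    exact (Ideal.comap_bot_of_injective _ hι)
  obtain ⟨P, hP, h1, h2⟩ := Set.mem_iUnion₂.1 (show _ ∈ ⋃ P ∈ S, P.toSet from h0)
  refine ⟨P.f, fun h => h2 (by simp [PrimeSpectrum.mem_zeroLocus, h]), fun χ hχ => ?_⟩
  have hm : (⟨RingHom.ker χ.toRingHom, RingHom.ker_isPrime _⟩ : PrimeSpectrum C) ∈
      Set.range (PrimeSpectrum.comap ι.toRingHom) := by
    rw [← hS]
    refine Set.mem_biUnion hP ⟨fun a ha => ?_, fun h => hχ ?_⟩
    · have : a = 0 := Ideal.mem_bot.1 (h1 ha)
      rw [this]
      exact zero_mem _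
    · exact h rfl
  obtain ⟨Q, hQ⟩ := hm
  obtain ⟨M, hM, hQM⟩ := Q.asIdeal.exists_le_maximal Q.2.ne_top
  obtain ⟨ψ, hψ⟩ := exists_point_of_isMaximal (k := k) M
  refine ⟨ψ, AlgHom.ext fun c => ?_⟩
  have : c - algebraMap k C (χ c) ∈ Q.asIdeal.comap ι.toRingHom :=
    (PrimeSpectrum.ext_iff.1 hQ).ge (by simp [RingHom.mem_ker])
  have h3 : ι (c - algebraMap k C (χ c)) ∈ RingHom.ker ψ.toRingHom := hψ.ge (hQM this)
  have h4 : ψ (ι (c - algebraMap k C (χ c))) = 0 := h3
  rw [map_sub, map_sub, AlgHom.commutes, AlgHom.commutes, sub_eq_zero] at h4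
  simpa using h4

/-- Dimensions in a tower of domains. -/
theorem dim_tower {R S : Type u} [CommRing R] [CommRing S] [IsDomain R] [IsDomain S] [Algebra k R] [Algebra k S] [Algebra R S]
    [IsScalarTower k R S] [FaithfulSMul k R] [FaithfulSMul R S] [Algebra.FiniteType k R] [Algebra.FiniteType k S]
    {t : Set S} [Fintype t] (ht : IsTranscendenceBasis R ((↑) : t → S)) :
    ∃ s u : ℕ, ringKrullDim S = (s : WithBot ℕ∞) ∧ ringKrullDim R = (u : WithBot ℕ∞) ∧ s = u + Fintype.card t := by
  haveI : FaithfulSMul k S := (faithfulSMul_iff_algebraMap_injective _ _).2 (algebraMap k S).injective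
  obtain ⟨s, hs, hs'⟩ := WeilLib.dim_eq_trdeg k S (FractionRing S)
  obtain ⟨u, hu, hu'⟩ := WeilLib.dim_eq_trdeg k R (FractionRing R)
  haveI : Algebra.IsAlgebraic S (FractionRing S) := IsLocalization.isAlgebraic _ (nonZeroDivisors _)
  haveI : Algebra.IsAlgebraic R (FractionRing R) := IsLocalization.isAlgebraic _ (nonZeroDivisors _)
  rw [← trdeg_add_eq k R (A := FractionRing R), trdeg_eq_zero (R := R) (A := FractionRing R), add_zero] at hu'
  rw [← trdeg_add_eq k S (A := FractionRing S), trdeg_eq_zero (R := S) (A := FractionRing S), add_zero,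
    ← trdeg_add_eq k R (A := S), hu', ← ht.cardinalMk_eq_trdeg, Cardinal.mk_fintype, ← Nat.cast_add, Nat.cast_inj] at hs'
  exact ⟨s, u, hs, hu, hs'.symm⟩

/-- Fibres inside few small subspaces bound the dimension. -/
theorem fibre_bound {σ β : Type} [Fintype σ] [Fintype β] (b : β → σ) (hb : Function.Injective b)
    (p : Ideal (MvPolynomial σ k)) [p.IsPrime] (c : ℕ) {g : MvPolynomial σ k} (hg : g ∉ p)
    (Ls : ({x : σ // x ∉ Set.range b} → k) → Finset (Submodule k (β → k)))
    (hLs : ∀ a, ∀ L ∈ Ls a, Module.finrank k L + c ≤ Fintype.card β)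
    (hZ : ∀ z : σ → k, p ≤ RingHom.ker (eval z) → eval z g ≠ 0 → ∃ L ∈ Ls (fun x => z x.1), z ∘ b ∈ L) :
    ringKrullDim (MvPolynomial σ k ⧸ p) + (c : WithBot ℕ∞) ≤ ((Fintype.card σ : ℕ) : WithBot ℕ∞) := by
  classical
  haveI : IsDomain (MvPolynomial σ k ⧸ p) := Ideal.Quotient.isDomain _
  let π : MvPolynomial σ k →ₐ[k] MvPolynomial σ k ⧸ p := Ideal.Quotient.mkₐ k p
  let A := {x : σ // x ∉ Set.range b}
  let φ : MvPolynomial A k →ₐ[k] MvPolynomial σ k ⧸ p := π.comp (rename Subtype.val)
  haveI : Algebra.FiniteType k φ.range := Algebra.FiniteType.of_surjective φ.rangeRestrict φ.rangeRestrict_surjective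
  haveI : IsDomain φ.range := Subalgebra.isDomain _
  haveI : FaithfulSMul k φ.range := (faithfulSMul_iff_algebraMap_injective _ _).2 (algebraMap k φ.range).injective
  haveI : FaithfulSMul φ.range (MvPolynomial σ k ⧸ p) := ⟨fun {x y} h => Subtype.ext (by simpa [Subalgebra.smul_def] using h 1)⟩
  let y : β → MvPolynomial σ k ⧸ p := fun i => π (MvPolynomial.X (b i))
  have htop : ∀ x, x ∈ Algebra.adjoin φ.range (Set.range y) := fun x => by
    obtain ⟨P, rfl⟩ := Ideal.Quotient.mk_surjective x
    induction P using MvPolynomial.induction_on with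
    | C a => exact (Algebra.adjoin φ.range (Set.range y)).algebraMap_mem (algebraMap k φ.range a)
    | add P P' hP hP' => rw [map_add]; exact add_mem hP hP'
    | mul_X P i hP =>
      rw [map_mul]
      refine mul_mem hP ?_
      by_cases hi : i ∈ Set.range b
      · obtain ⟨j, rfl⟩ := hi
        exact Algebra.subset_adjoin ⟨j, rfl⟩
      · exact (Algebra.adjoin φ.range (Set.range y)).algebraMap_mem
          ⟨Ideal.Quotient.mk p (MvPolynomial.X i), MvPolynomial.X ⟨i, hi⟩, by simp [φ, π]⟩
  haveI : Algebra.IsAlgebraic (Algebra.adjoin φ.range (Set.range y)) (MvPolynomial σ k ⧸ p) :=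
    ⟨fun x => isAlgebraic_algebraMap (⟨x, htop x⟩ : Algebra.adjoin φ.range (Set.range y))⟩
  obtain ⟨t, hty, ht⟩ := exists_isTranscendenceBasis_subset (R := φ.range) (Set.range y)
  haveI : Fintype t := ((Set.finite_range y).subset hty).fintype
  -- the independent coordinates
  have hkey : Fintype.card t + c ≤ Fintype.card β := by
    by_contra hlt
    choose ι hι using fun i : t => hty i.2
    have hιinj : Function.Injective ι := fun i i' h => Subtype.ext (by rw [← hι i, ← hι i', h])
    let ev : MvPolynomial t φ.range →ₐ[φ.range] MvPolynomial σ k ⧸ p := aeval fun i : t => (i : MvPolynomial σ k ⧸ p)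
    have hev : Function.Injective ev := ht.1
    haveI : Algebra.FiniteType k (MvPolynomial t φ.range) :=
      Algebra.FiniteType.trans (inferInstance : Algebra.FiniteType k φ.range) (inferInstance : Algebra.FiniteType φ.range _)
    set gb := π g with hgb
    have hgb0 : gb ≠ 0 := fun h => hg (Ideal.Quotient.eq_zero_iff_mem.1 h)
    let D := Localization.Away gb
    haveI : IsDomain D := IsLocalization.isDomain_localization
      (powers_le_nonZeroDivisors_of_noZeroDivisors hgb0)
    haveI : Algebra.FiniteType (MvPolynomial σ k ⧸ p) D := IsLocalization.finiteType_of_monoid_fg (Submonoid.powers gb) D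
    haveI : Algebra.FiniteType k D :=
      Algebra.FiniteType.trans (inferInstance : Algebra.FiniteType k (MvPolynomial σ k ⧸ p)) (inferInstance : Algebra.FiniteType (MvPolynomial σ k ⧸ p) D)
    let ι' : MvPolynomial t φ.range →ₐ[k] D :=
      (IsScalarTower.toAlgHom k (MvPolynomial σ k ⧸ p) D).comp (ev.restrictScalars k)
    have hι' : Function.Injective ι' :=
      (IsLocalization.injective D (powers_le_nonZeroDivisors_of_noZeroDivisors hgb0)).comp hev
    obtain ⟨h, hh0, hh⟩ := exists_extend_point (k := k) (C := MvPolynomial t φ.range) (D := D) ι' hι'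
    obtain ⟨d, hd⟩ : ∃ d, coeff d h ≠ 0 := by
      by_contra hall
      push Not at hall
      exact hh0 (MvPolynomial.ext _ _ fun d => by rw [hall d, coeff_zero])
    obtain ⟨θ, hθ⟩ := exists_point_ne_zero (k := k) hd
    let a : A → k := fun x => θ (φ.rangeRestrict (MvPolynomial.X x))
    -- avoid the projections of the subspaces
    have hfun : ∀ L : {L // L ∈ Ls a}, ∃ ψ : MvPolynomial t k, ψ ≠ 0 ∧ ∀ w ∈ L.1, eval (fun i => w (ι i)) ψ = 0 := fun L => by
      let pr : (β → k) →ₗ[k] (t → k) := LinearMap.funLeft k k ι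
      have hlt' : L.1.map pr < ⊤ := by
        refine lt_top_iff_ne_top.2 fun htop' => ?_
        have h1 := Submodule.finrank_map_le pr L.1
        rw [htop', finrank_top, Module.finrank_fintype_fun_eq_card] at h1
        have := hLs a L.1 L.2
        omega
      obtain ⟨f, hf, hker⟩ := Submodule.exists_le_ker_of_lt_top _ hlt'
      refine ⟨∑ i, C (f (Pi.single i 1)) * MvPolynomial.X i, fun h0 => hf (LinearMap.pi_ext' fun i => LinearMap.ext_ring ?_),
        fun w hw => ?_⟩
      · have h1 := congrArg (eval (Pi.single i (1 : k) : t → k)) h0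
        simpa [Pi.single_apply] using h1
      · rw [← (show f (pr w) = 0 from hker (Submodule.mem_map_of_mem hw))]
        conv_rhs => rw [pi_eq_sum_univ' (pr w)]
        simp [map_sum, pr, LinearMap.funLeft_apply, mul_comm]
    choose ψ hψ0 hψ using hfun
    have ha0 : MvPolynomial.map θ.toRingHom h ≠ 0 := fun h0 => hθ (by
      have := congrArg (coeff d) h0
      simpa [coeff_map] using this)
    obtain ⟨w, hw⟩ : ∃ w, eval w (MvPolynomial.map θ.toRingHom h * ∏ L, ψ L) ≠ 0 := by
      by_contra hall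
      push Not at hall
      exact mul_ne_zero ha0 (Finset.prod_ne_zero_iff.2 fun L _ => hψ0 L)
        (MvPolynomial.funext fun w => by rw [hall w, map_zero])
    simp only [map_mul, map_prod, mul_ne_zero_iff, Finset.prod_ne_zero_iff, Finset.mem_univ, forall_true_left] at hw
    let χ : MvPolynomial t φ.range →ₐ[k] k := MvPolynomial.aevalTower θ w
    have hχ : χ h ≠ 0 := by
      have : χ h = eval w (MvPolynomial.map θ.toRingHom h) := by
        rw [eval_map]; rfl
      rw [this]
      exact hw.1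
    obtain ⟨Ψ, hΨ⟩ := hh χ hχ
    let Ψ' : MvPolynomial σ k →ₐ[k] k := (Ψ.comp (IsScalarTower.toAlgHom k (MvPolynomial σ k ⧸ p) D)).comp π
    let z : σ → k := fun x => Ψ' (MvPolynomial.X x)
    have hz : ∀ P, eval z P = Ψ' P := fun P => by
      rw [← aeval_eq_eval]
      exact congrArg (fun f : MvPolynomial σ k →ₐ[k] k => f P) (algHom_ext fun i => by simp [z])
    obtain ⟨L, hL, hzL⟩ := hZ z (fun P hP => by
      rw [RingHom.mem_ker, hz]
      show Ψ (algebraMap _ D (π P)) = 0
      rw [show π P = 0 from Ideal.Quotient.eq_zero_iff_mem.2 hP, map_zero, map_zero]) (by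
      rw [hz]
      show Ψ (algebraMap _ D gb) ≠ 0
      exact ((IsLocalization.Away.algebraMap_isUnit gb).map Ψ).ne_zero)
    have hza : (fun x : A => z x.1) = a := funext fun x => by
      have h1 := congrArg (fun f : MvPolynomial t φ.range →ₐ[k] k => f (C (φ.rangeRestrict (MvPolynomial.X x)))) hΨ
      simp only [χ, MvPolynomial.aevalTower_C] at h1
      show z x.1 = θ (φ.rangeRestrict (MvPolynomial.X x))
      rw [← h1]
      show Ψ (algebraMap _ D (π (MvPolynomial.X x.1))) = Ψ (algebraMap _ D (ev (C (φ.rangeRestrict (MvPolynomial.X x)))))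
      congr 2
      simp only [ev, aeval_C]
      show π (MvPolynomial.X x.1) = φ (MvPolynomial.X x)
      simp [φ]
    rw [hza] at hL
    have hw2 : (fun i => (z ∘ b) (ι i)) = w := funext fun i => by
      have h1 := congrArg (fun f : MvPolynomial t φ.range →ₐ[k] k => f (MvPolynomial.X i)) hΨ
      simp only [χ, MvPolynomial.aevalTower_X] at h1
      rw [← h1]
      show Ψ (algebraMap _ D (π (MvPolynomial.X (b (ι i))))) = Ψ (algebraMap _ D (ev (MvPolynomial.X i)))
      congr 2
      simp only [ev, aeval_X]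
      exact hι i
    exact hw.2 ⟨L, hL⟩ (hw2 ▸ hψ ⟨L, hL⟩ _ hzL)
  -- count
  obtain ⟨s, u, hs, hu, hsu⟩ := dim_tower (k := k) (R := φ.range) (S := MvPolynomial σ k ⧸ p) ht
  subst hsu
  have hA : u ≤ Fintype.card A := by
    have h1 := ringKrullDim_le_of_surjective φ.rangeRestrict.toRingHom φ.rangeRestrict_surjective
    rw [MvPolynomial.ringKrullDim_of_isNoetherianRing, ringKrullDim_eq_zero_of_field, zero_add, Nat.card_eq_fintype_card,
      hu] at h1
    exact_mod_cast h1
  have hcard : Fintype.card A + Fintype.card β = Fintype.card σ := by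
    rw [Fintype.card_subtype_compl, ← Set.toFinset_card, Set.toFinset_range, Finset.card_image_of_injective _ hb,
      Finset.card_univ]
    exact Nat.sub_add_cancel (Fintype.card_le_of_injective _ hb)
  rw [hs]
  exact_mod_cast (by omega : u + Fintype.card t + c ≤ Fintype.card σ)

end FanoCodimLib
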