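import Groth.Agent.FanoCodimLib.SeqLocus
import Groth.Agent.CIGenLib.DualVar
import Mathlib

/-!
# Lines through a point of a general hypersurface
-/

set_option autoImplicit false
set_option linter.unusedSectionVars false
set_option linter.style.haveILetI false

universe u

open MvPolynomial CIGen

namespace FanoCodimLib

variable {k : Type u} [Field k] [IsAlgClosed k] {m d : ℕ}

/-- Too few parameters give a relation. -/
theorem exists_relation {σ τ ι : Type} [Fintype σ] [Fintype τ] [Fintype ι] (p : Ideal (MvPolynomial σ k)) [p.IsPrime]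
    (h : ∀ s : ℕ, ringKrullDim (MvPolynomial σ k ⧸ p) = (s : WithBot ℕ∞) → s + Fintype.card τ < Fintype.card ι)
    (c : ι → MvPolynomial (τ ⊕ σ) k) :
    ∃ Ψ : MvPolynomial ι k, Ψ ≠ 0 ∧ ∀ (v : τ → k) (z : σ → k), p ≤ RingHom.ker (eval z) →
      eval (fun i => eval (Sum.elim v z) (c i)) Ψ = 0 := by
  haveI : IsDomain (MvPolynomial σ k ⧸ p) := Ideal.Quotient.isDomain _
  let f : MvPolynomial (τ ⊕ σ) k →ₐ[k] MvPolynomial τ (MvPolynomial σ k ⧸ p) :=
    aeval (Sum.elim MvPolynomial.X fun i => C (Ideal.Quotient.mk p (MvPolynomial.X i)))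
  haveI : Algebra.FiniteType k (MvPolynomial τ (MvPolynomial σ k ⧸ p)) :=
    Algebra.FiniteType.trans (inferInstance : Algebra.FiniteType k (MvPolynomial σ k ⧸ p))
      (inferInstance : Algebra.FiniteType (MvPolynomial σ k ⧸ p) _)
  have hdep : ¬ AlgebraicIndependent k (fun i => f (c i)) := fun hind => by
    obtain ⟨t, ht, htr⟩ := WeilLib.dim_eq_trdeg k (MvPolynomial τ (MvPolynomial σ k ⧸ p))
      (FractionRing (MvPolynomial τ (MvPolynomial σ k ⧸ p)))
    obtain ⟨s, hs, -⟩ := WeilLib.dim_eq_trdeg k (MvPolynomial σ k ⧸ p) (FractionRing (MvPolynomial σ k ⧸ p))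
    have h1 : ringKrullDim (MvPolynomial τ (MvPolynomial σ k ⧸ p)) = ((s + Fintype.card τ : ℕ) : WithBot ℕ∞) := by
      rw [MvPolynomial.ringKrullDim_of_isNoetherianRing, hs, Nat.card_eq_fintype_card, Nat.cast_add]
    rw [ht] at h1
    have h2 : t = s + Fintype.card τ := by exact_mod_cast h1
    have h3 := (hind.map' (f := IsScalarTower.toAlgHom k (MvPolynomial τ (MvPolynomial σ k ⧸ p))
      (FractionRing (MvPolynomial τ (MvPolynomial σ k ⧸ p))))
      (by exact IsFractionRing.injective (MvPolynomial τ (MvPolynomial σ k ⧸ p)) (FractionRing (MvPolynomial τ (MvPolynomial σ k ⧸ p))))).lift_cardinalMk_le_trdeg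
    rw [htr] at h3
    simp only [Cardinal.mk_fintype, Cardinal.lift_natCast, Nat.cast_le] at h3
    have := h s hs
    omega
  rw [algebraicIndependent_iff] at hdep
  push Not at hdep
  obtain ⟨Ψ, hΨ, hΨ0⟩ := hdep
  refine ⟨Ψ, hΨ0, fun v z hz => ?_⟩
  let ev : (MvPolynomial σ k ⧸ p) →ₐ[k] k :=
    Ideal.Quotient.liftₐ p (aeval z) fun x hx => by rw [aeval_eq_eval]; exact hz hx
  let E : MvPolynomial τ (MvPolynomial σ k ⧸ p) →ₐ[k] k := MvPolynomial.aevalTower ev v
  have hE : E.comp f = aeval (Sum.elim v z) := algHom_ext fun i => by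
    rcases i with i | i
    · simp [E, f]
    · simp only [E, f, AlgHom.comp_apply, aeval_X, Sum.elim_inr, MvPolynomial.aevalTower_C]
      show aeval z (MvPolynomial.X i) = z i
      simp
  have h1 := congrArg E hΨ
  rw [map_zero, comp_aeval_apply] at h1
  rw [← h1, ← aeval_eq_eval]
  refine congrArg (fun g : ι → k => aeval g Ψ) (funext fun i => ?_)
  exact (congrArg (fun g : MvPolynomial (τ ⊕ σ) k →ₐ[k] k => g (c i)) hE).symm.trans rfl

/-- Translation to the point. -/
noncomputable def shift {R : Type*} [CommRing R] (j : Fin (m + 2)) (v' : Fin (m + 1) → R) (q : Fin (m + 1)) :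
    MvPolynomial (Fin (m + 2)) R :=
  MvPolynomial.X (j.succAbove q) - C (v' q) * MvPolynomial.X j

/-- A form with given Taylor expansion at a point. -/
noncomputable def taylor {R : Type*} [CommRing R] (j : Fin (m + 2)) (v' : Fin (m + 1) → R)
    (f : Fin d → MvPolynomial (Fin (m + 1)) R) : MvPolynomial (Fin (m + 2)) R :=
  ∑ i, MvPolynomial.X j ^ (d - (i.1 + 1)) * aeval (shift j v') (f i)

theorem eval_taylor (j : Fin (m + 2)) (v' : Fin (m + 1) → k) (f : Fin d → MvPolynomial (Fin (m + 1)) k)
    (x : Fin (m + 2) → k) :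
    eval x (taylor j v' f) = ∑ i, x j ^ (d - (i.1 + 1)) * eval (fun q => x (j.succAbove q) - v' q * x j) (f i) := by
  simp only [taylor, map_sum, map_mul, map_pow, eval_X]
  refine Finset.sum_congr rfl fun i _ => ?_
  rw [← aeval_eq_eval, comp_aeval_apply, aeval_eq_eval]
  simp [shift]

theorem map_taylor {R S : Type*} [CommRing R] [CommRing S] (φ : R →+* S) (j : Fin (m + 2)) (v' : Fin (m + 1) → R)
    (f : Fin d → MvPolynomial (Fin (m + 1)) R) :
    MvPolynomial.map φ (taylor j v' f) = taylor j (fun q => φ (v' q)) fun i => MvPolynomial.map φ (f i) := by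
  simp only [taylor, map_sum, map_mul, map_pow, map_X]
  refine Finset.sum_congr rfl fun i _ => congrArg _ ?_
  induction f i using MvPolynomial.induction_on with
  | C a => simp
  | add p q hp hq => simp only [map_add, hp, hq]
  | mul_X p a hp =>
    simp only [map_mul, aeval_X, map_X, hp]
    simp [shift]

/-- Every form through the point is a Taylor sum. -/
theorem exists_taylor (G : MvPolynomial (Fin (m + 2)) k) (hG : G.IsHomogeneous d) (j : Fin (m + 2)) (v' : Fin (m + 1) → k)
    (h0 : eval (Fin.insertNth j 1 v') G = 0) :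
    ∃ z : SeqIdx m d → k, G = taylor j v' (gp z d le_rfl) := by
  classical
  let par : Fin (m + 2) → MvPolynomial (Fin (m + 1)) k := Fin.insertNth j 1 fun q => MvPolynomial.X q + C (v' q)
  have hpar : ∀ q, (par q).totalDegree ≤ 1 := fun q => by
    rcases Fin.eq_self_or_eq_succAbove j q with rfl | ⟨a, rfl⟩
    · simp [par]
    · simp only [par, Fin.insertNth_apply_succAbove]
      exact (totalDegree_add _ _).trans (max_le (totalDegree_X _).le (by simp))
  set h := aeval par G with hh
  have hdeg : h.totalDegree ≤ d := by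
    rw [hh, G.as_sum, map_sum]
    refine (totalDegree_finsetSum _ _).trans (Finset.sup_le fun s hs => ?_)
    rw [aeval_monomial, Finsupp.prod]
    refine (totalDegree_mul _ _).trans ?_
    rw [algebraMap_eq, totalDegree_C, zero_add]
    refine (totalDegree_finsetProd _ _).trans ?_
    have hsd : s.degree = d := by
      by_contra hne
      exact (mem_support_iff.1 hs) (hG.coeff_eq_zero hne)
    rw [← hsd, Finsupp.degree_apply]
    refine Finset.sum_le_sum fun a _ => ?_
    exact (totalDegree_pow _ _).trans (by simpa using Nat.mul_le_mul_left (s a) (hpar a))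
  have heval : ∀ u, eval u h = eval (Fin.insertNth j 1 fun q => u q + v' q) G := fun u => by
    rw [hh, ← aeval_eq_eval, comp_aeval_apply, aeval_eq_eval]
    refine congrArg (fun g : Fin (m + 2) → k => eval g G) (funext fun q => ?_)
    rcases Fin.eq_self_or_eq_succAbove j q with rfl | ⟨a, rfl⟩ <;> simp [par]
  let z : SeqIdx m d → k := fun x => coeff x.2.1 h
  have hc0 : coeff 0 h = 0 := by
    have := heval 0
    simp only [Pi.zero_apply, zero_add] at this
    rw [h0, eval_zero, constantCoeff_eq] at this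
    exact this
  have hsum : ∑ i, gp z d le_rfl i = h := by
    refine MvPolynomial.ext _ _ fun t => ?_
    rw [coeff_sum]
    have hcoef : ∀ i : Fin d, coeff t (gp z d le_rfl i) = if t.degree = i.1 + 1 then coeff t h else 0 := fun i => by
      split_ifs with ht
      · exact coeff_form1 _ (⟨t, ht⟩ : Exp m (i.1 + 1))
      · exact (gp_homog z d le_rfl i).coeff_eq_zero ht
    rw [Finset.sum_congr rfl fun i _ => hcoef i]
    rcases Nat.eq_zero_or_pos t.degree with ht0 | ht0
    · rw [Finset.sum_eq_zero (fun i _ => if_neg (by omega)), (Finsupp.degree_eq_zero_iff t).1 ht0, hc0]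
    rcases Nat.lt_or_ge d t.degree with htd | htd
    · rw [Finset.sum_eq_zero (fun i _ => if_neg (by omega)), coeff_eq_zero_of_totalDegree_lt]
      exact lt_of_le_of_lt hdeg (by rwa [Finsupp.degree_apply] at htd)
    · rw [Finset.sum_eq_single (⟨t.degree - 1, by omega⟩ : Fin d)
        (fun i _ hi => if_neg fun e => hi (Fin.ext (by simp only; omega))) (fun hn => absurd (Finset.mem_univ _) hn),
        if_pos (by simp only; omega)]
  refine ⟨z, mul_left_cancel₀ (X_ne_zero j) (MvPolynomial.funext fun x => ?_)⟩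
  rw [map_mul, map_mul, eval_X]
  rcases eq_or_ne (x j) 0 with hx | hx
  · rw [hx, zero_mul, zero_mul]
  congr 1
  rw [eval_taylor]
  have hy : x = fun q => x j * ((Fin.insertNth j 1 fun q => (x (j.succAbove q) / x j - v' q) + v' q : Fin (m + 2) → k) q) :=
    funext fun q => by
      rcases Fin.eq_self_or_eq_succAbove j q with rfl | ⟨a, rfl⟩
      · simp
      · simp [mul_div_cancel₀ _ hx]
  conv_lhs => rw [hy]
  rw [CIGen.eval_smul_of_homogeneous hG, ← heval, ← hsum, map_sum, Finset.mul_sum]
  refine Finset.sum_congr rfl fun i _ => ?_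
  rw [show (fun q => x (j.succAbove q) - v' q * x j) = fun q => x j * (x (j.succAbove q) / x j - v' q) from
    funext fun q => by rw [mul_sub, mul_div_cancel₀ _ hx, mul_comm], CIGen.eval_smul_of_homogeneous (gp_homog z d le_rfl i),
    ← mul_assoc, ← pow_add, Nat.sub_add_cancel i.2]

/-- Good Taylor expansion gives few lines. -/
theorem codimGE_cone (hd : d ≤ m + 1) (j : Fin (m + 2)) (v' : Fin (m + 1) → k) {z : SeqIdx m d → k}
    (hz : z ∉ bad m d d le_rfl) {C' : Set (Fin (m + 2) → k)}
    (hC : ∀ w ∈ C', ∀ r : k, eval (fun q => r * (Fin.insertNth j 1 v' : Fin (m + 2) → k) q + w q) (taylor j v' (gp z d le_rfl)) = 0) :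
    LefPen.CodimGE k C' d := by
  classical
  simp only [bad, Set.mem_ofPred_eq, not_not] at hz
  obtain ⟨L, hL⟩ := hz
  let F : Fin d → MvPolynomial (Fin (m + 1 + 1)) k := fun i => aeval (shift j v') (gp z d le_rfl i)
  have hF : ∀ i, (F i).IsHomogeneous (i.1 + 1) := fun i => by
    have := (gp_homog z d le_rfl i).aeval (n := 1) (shift j v') fun q => (isHomogeneous_X k _).sub (by
      simpa using (isHomogeneous_C _ (v' q)).mul (isHomogeneous_X k j))
    rwa [one_mul] at this
  have hFe : ∀ i x, eval x (F i) = eval (fun q => x (j.succAbove q) - v' q * x j) (gp z d le_rfl i) := fun i x => by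
    rw [← aeval_eq_eval, comp_aeval_apply, aeval_eq_eval]
    simp [shift]
  let L' : Fin (m + 1 - d + 1) → Fin (m + 1 + 1) → k :=
    Fin.cons (Pi.single j 1) fun b => Fin.insertNth j (-∑ q, L b q * v' q) (L b)
  have hNo : NoZero F L' := fun x hF' hb => by
    have hxj : x j = 0 := by simpa [L', LefPenLib.dotV_apply, Pi.single_apply] using hb 0
    have hx' : (fun q => x (j.succAbove q)) = 0 := hL _ (fun i => by
      have h1 := hF' i
      rw [hFe] at h1
      simpa [hxj] using h1) fun b => by
      have h1 := hb b.succ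
      rw [LefPenLib.dotV_apply, Fin.sum_univ_succAbove _ j] at h1
      simpa [L', hxj, LefPenLib.dotV_apply] using h1
    funext q
    rcases Fin.eq_self_or_eq_succAbove j q with rfl | ⟨a, rfl⟩
    · exact hxj
    · exact congrFun hx' a
  have hdim := dim_le_of_noZero hF hNo
  refine codimGE_of_coords (LinearEquiv.refl k (Fin (m + 2) → k)) C' d fun p hp hle => ?_
  haveI := hp
  have hJ : Ideal.span (Set.range F) ≤ p := Ideal.span_le.2 (by
    rintro _ ⟨i, rfl⟩
    refine hle ?_
    rintro _ ⟨w, hw, rfl⟩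
    show eval w (F i) = 0
    rw [hFe]
    let P : Polynomial k := ∑ i : Fin d, Polynomial.monomial (d - (i.1 + 1))
      (eval (fun q => w (j.succAbove q) - v' q * w j) (gp z d le_rfl i))
    have hP : P = 0 := Polynomial.funext fun r => by
      have h1 := hC w hw (r - w j)
      rw [eval_taylor] at h1
      simp only [Fin.insertNth_apply_same, mul_one, sub_add_cancel, Fin.insertNth_apply_succAbove] at h1
      rw [Polynomial.eval_zero, ← h1]
      simp only [P, Polynomial.eval_finsetSum, Polynomial.eval_monomial]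
      refine Finset.sum_congr rfl fun i _ => ?_
      rw [mul_comm]
      congr 1
      refine congrArg (fun g : Fin (m + 1) → k => eval g (gp z d le_rfl i)) (funext fun q => ?_)
      ring
    have h2 := congrArg (fun Q : Polynomial k => Q.coeff (d - (i.1 + 1))) hP
    simp only [P, Polynomial.finsetSum_coeff, Polynomial.coeff_monomial, Polynomial.coeff_zero] at h2
    rw [Finset.sum_eq_single i (fun i' _ hne => if_neg fun e => hne (Fin.ext (by have := i.2; have := i'.2; omega)))
      (fun h => absurd (Finset.mem_univ i) h), if_pos rfl] at h2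
    exact h2)
  refine le_trans (add_le_add (le_trans (ringKrullDim_le_of_surjective (Ideal.Quotient.factor hJ)
    (Ideal.Quotient.factor_surjective _)) hdim) le_rfl) ?_
  rw [Fintype.card_fin]
  exact_mod_cast (by omega : m + 1 - d + 1 + d ≤ m + 2)

/-- The universal Taylor sum. -/
noncomputable def utaylor (m d : ℕ) (j : Fin (m + 2)) :
    MvPolynomial (Fin (m + 2)) (MvPolynomial (Fin (m + 1) ⊕ SeqIdx m d) k) :=
  taylor j (fun q => MvPolynomial.X (Sum.inl q))
    fun i => ∑ s : Exp m (i.1 + 1), monomial s.1 (MvPolynomial.X (Sum.inr ⟨i, s⟩))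

theorem map_utaylor (j : Fin (m + 2)) (v' : Fin (m + 1) → k) (z : SeqIdx m d → k) :
    MvPolynomial.map (eval (Sum.elim v' z)) (utaylor m d j) = taylor j v' (gp z d le_rfl) := by
  rw [utaylor, map_taylor]
  refine congrArg₂ (taylor j) (funext fun q => by simp) (funext fun i => ?_)
  simp only [map_sum, map_monomial, eval_X, Sum.elim_inr, gp, form1]
  rfl

theorem card_seqIdx_lt (j : Fin (m + 2)) : Fintype.card (SeqIdx m d) < Fintype.card (Exp (m + 1) d) := by
  classical
  let f : SeqIdx m d → Exp (m + 1) d := fun x => ⟨Finsupp.mapDomain j.succAbove x.2.1 + Finsupp.single j (d - (x.1.1 + 1)), by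
    rw [map_add, Finsupp.degree_single, Finsupp.degree_mapDomain, x.2.2]
    have := x.1.2
    omega⟩
  have hval : ∀ x q, (f x).1 (j.succAbove q) = x.2.1 q := fun x q => by
    show (Finsupp.mapDomain j.succAbove x.2.1 + Finsupp.single j (d - (x.1.1 + 1))) (j.succAbove q) = _
    rw [Finsupp.add_apply, Finsupp.mapDomain_apply Fin.succAbove_right_injective,
      Finsupp.single_eq_of_ne (Fin.succAbove_ne j q), add_zero]
  have hinj : Function.Injective f := by
    rintro ⟨i, s⟩ ⟨i', s'⟩ h
    have hs : s.1 = s'.1 := Finsupp.ext fun q => by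
      have := congrArg (fun x : Exp (m + 1) d => x.1 (j.succAbove q)) h
      simpa only [hval] using this
    obtain rfl : i = i' := Fin.ext (by
      have h1 := s.2
      have h2 := s'.2
      rw [hs, h2] at h1
      omega)
    exact congrArg (Sigma.mk i) (Subtype.ext hs)
  refine Fintype.card_lt_of_injective_of_notMem f hinj (b := ⟨Finsupp.single j d, Finsupp.degree_single _ _⟩) ?_
  rintro ⟨⟨i, s⟩, hx⟩
  have h0 : s.1 = 0 := Finsupp.ext fun q => by
    rw [← hval ⟨i, s⟩ q, hx]
    exact Finsupp.single_eq_of_ne (Fin.succAbove_ne j q)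
  have := s.2
  rw [h0, map_zero] at this
  omega

/-- General hypersurfaces have few lines through each point. -/
theorem isGeneric_lines (hdm : d + 2 ≤ m) :
    LefPen.IsGeneric k {Φ : LefPen.Form (m + 1) k d |
      ∀ v : Fin (m + 1 + 1) → k, v ≠ 0 → eval v Φ.1 = 0 →
        LefPen.CodimGE k {w : Fin (m + 1 + 1) → k | ∀ s t : k, eval (s • v + t • w) Φ.1 = 0} d} := by
  classical
  set J := zerosIdeal (bad (k := k) m d d le_rfl) with hJ
  haveI := J.finite_minimalPrimes_of_isNoetherianRing.fintype
  have key : ∀ x : Fin (m + 2) × J.minimalPrimes, ∃ Ψ : MvPolynomial (Exp (m + 1) d) k, Ψ ≠ 0 ∧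
      ∀ (v' : Fin (m + 1) → k) (z : SeqIdx m d → k), x.2.1 ≤ RingHom.ker (eval z) →
        eval (fun s => coeff s.1 (taylor x.1 v' (gp z d le_rfl))) Ψ = 0 := by
    rintro ⟨j, P, hP⟩
    haveI := hP.1.1
    have hb := bad_bound (by omega) P hP.1.2
    obtain ⟨Ψ, h0, hΨ⟩ := exists_relation P (τ := Fin (m + 1)) (ι := Exp (m + 1) d) (fun s hs => by
      rw [hs] at hb
      have h1 : s + (m + 1) ≤ Fintype.card (SeqIdx m d) := by exact_mod_cast hb
      have := card_seqIdx_lt (m := m) (d := d) j
      rw [Fintype.card_fin]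
      omega) fun s => coeff s.1 (utaylor m d j)
    refine ⟨Ψ, h0, fun v' z hz => ?_⟩
    have h1 := hΨ v' z hz
    simpa only [← coeff_map, map_utaylor] using h1
  choose Ψ hΨ0 hΨ using key
  obtain ⟨a0, ha0⟩ : ∃ a : Exp (m + 1) d → k, eval a (∏ x, Ψ x) ≠ 0 := by
    by_contra hall
    push Not at hall
    exact Finset.prod_ne_zero_iff.2 (fun x _ => hΨ0 x) (MvPolynomial.funext fun a => by rw [hall a, map_zero])
  refine ⟨fun G => eval (coords G) (∏ x, Ψ x), isPolyFun_eval _, ⟨formOf a0, ?_⟩, fun G hG v hv hGv => ?_⟩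
  · show eval (coords (formOf a0)) _ ≠ 0
    rw [coords_formOf]
    exact ha0
  obtain ⟨j, hj⟩ := Function.ne_iff.1 hv
  let v1 : Fin (m + 2) → k := fun q => (v j)⁻¹ * v q
  let v' : Fin (m + 1) → k := fun q => v1 (j.succAbove q)
  have hv1 : (Fin.insertNth j 1 v' : Fin (m + 2) → k) = v1 := funext fun q => by
    rcases Fin.eq_self_or_eq_succAbove j q with rfl | ⟨a, rfl⟩
    · simp [v1, inv_mul_cancel₀ hj]
    · simp [v']
  have hGh : G.1.IsHomogeneous d := (mem_homogeneousSubmodule d _).1 G.2
  obtain ⟨z, hz⟩ := exists_taylor G.1 hGh j v' (by rw [hv1, CIGen.eval_smul_of_homogeneous hGh, hGv, mul_zero])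
  have hgood : z ∉ bad m d d le_rfl := fun hbad => by
    haveI : (RingHom.ker (eval z)).IsPrime := RingHom.ker_isPrime _
    obtain ⟨P, hP, hPle⟩ := Ideal.exists_minimalPrimes_le (show J ≤ RingHom.ker (eval z) from fun f hf => hf z hbad)
    refine hG ?_
    show eval (coords G) (∏ x, Ψ x) = 0
    rw [map_prod]
    refine Finset.prod_eq_zero (Finset.mem_univ (j, ⟨P, hP⟩)) ?_
    have := hΨ (j, ⟨P, hP⟩) v' z hPle
    simp only [← hz] at this
    exact this
  refine codimGE_cone (by omega) j v' hgood fun w hw r => ?_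
  rw [← hz, hv1]
  have h1 := hw (r * (v j)⁻¹) 1
  rw [← h1]
  refine congrArg (fun g : Fin (m + 2) → k => eval g G.1) (funext fun q => ?_)
  simp [v1, mul_assoc]

end FanoCodimLib
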