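import Groth.Agent.CIGenLib.Generic
import Groth.Agent.LefPenLib.Rank
import Groth.Prelude.Def_LefPen
import Groth.Agent.FanoCodimLib.Hilbert
import Mathlib

/-!
# Points imposing independent conditions on forms
-/

set_option autoImplicit false
set_option linter.unusedSectionVars false
set_option linter.style.haveILetI false

universe u

open MvPolynomial CIGen

namespace FanoCodimLib

variable {k : Type u} [Field k] {r d m : ℕ}

/-- The monomials at a point. -/
noncomputable def veronese (v : Fin (r + 1) → k) : Exp r d → k := fun s => eval v (monomial s.1 (1 : k))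

theorem isPolyFun_of_poly (Φ : MvPolynomial (Fin m × Fin (r + 1)) k) :
    LefPen.IsPolyFun k fun x : Fin m → (Fin (r + 1) → k) => eval (fun p => x p.1 p.2) Φ := by
  unfold LefPen.IsPolyFun
  induction Φ using MvPolynomial.induction_on with
  | C a =>
    rw [show (fun x : Fin m → (Fin (r + 1) → k) => eval (fun p => x p.1 p.2) (C a : MvPolynomial (Fin m × Fin (r + 1)) k)) =
      algebraMap k _ a from funext fun x => by simp]
    exact Subalgebra.algebraMap_mem _ a
  | add p q hp hq => simpa [Pi.add_def] using add_mem hp hq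
  | mul_X p s hp =>
    have hs : (fun x : Fin m → (Fin (r + 1) → k) => x s.1 s.2) ∈
        Algebra.adjoin k (Set.range (fun l : Module.Dual k (Fin m → (Fin (r + 1) → k)) => (l : _ → k))) :=
      Algebra.subset_adjoin ⟨((LinearMap.proj s.2 : (Fin (r + 1) → k) →ₗ[k] k).comp
        (LinearMap.proj (R := k) (φ := fun _ : Fin m => Fin (r + 1) → k) s.1)), rfl⟩
    simpa [Pi.mul_def] using mul_mem hp hs

theorem eval_form (v : Fin (r + 1) → k) {G : MvPolynomial (Fin (r + 1)) k} (hG : G.IsHomogeneous d) :
    eval v G = ∑ s : Exp r d, coeff s.1 G * veronese v s := by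
  have h : G = ∑ s : Exp r d, monomial s.1 (coeff s.1 G) := by
    refine MvPolynomial.ext _ _ fun t => ?_
    simp only [coeff_sum, coeff_monomial]
    by_cases ht : t.degree = d
    · rw [Finset.sum_eq_single (⟨t, ht⟩ : Exp r d) (fun s _ hs => if_neg fun e => hs (Subtype.ext e))
        (fun h => absurd (Finset.mem_univ _) h), if_pos rfl]
    · rw [hG.coeff_eq_zero ht]
      exact (Finset.sum_eq_zero fun s _ => if_neg fun e : s.1 = t => ht (e ▸ s.2)).symm
  conv_lhs => rw [h]
  rw [map_sum]
  exact Finset.sum_congr rfl fun s _ => by simp [veronese, eval_monomial]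

/-- Points in general position impose independent conditions. -/
theorem points_general [Infinite k] (hd : 1 ≤ d) (hm : (r + d).choose d ≤ m) :
    LefPen.IsZOpen k {x : Fin m → (Fin (r + 1) → k) |
      ∀ G : LefPen.Form r k d, (∀ i : Fin m, aeval (x i) G.1 = 0) → G = 0} ∧
    LefPen.IsGeneric k {x : Fin m → (Fin (r + 1) → k) |
      ∀ G : LefPen.Form r k d, (∀ i : Fin m, aeval (x i) G.1 = 0) → G = 0} := by
  classical
  set S := {x : Fin m → (Fin (r + 1) → k) | ∀ G : LefPen.Form r k d, (∀ i : Fin m, aeval (x i) G.1 = 0) → G = 0}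
  -- spanning is the condition
  have hS : ∀ x, Submodule.span k (Set.range fun i => veronese (d := d) (x i)) = ⊤ → x ∈ S := fun x hx G hG => by
    have hGh : G.1.IsHomogeneous d := (mem_homogeneousSubmodule d _).1 G.2
    let φ : (Exp r d → k) →ₗ[k] k := ∑ s, coeff s.1 G.1 • LinearMap.proj s
    have hφ : φ = 0 := by
      refine LinearMap.ext_on_range hx fun i => ?_
      rw [LinearMap.zero_apply]
      rw [← hG i, aeval_eq_eval, eval_form _ hGh]
      simp [φ]
    refine Subtype.ext (MvPolynomial.ext _ _ fun t => ?_)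
    show coeff t G.1 = coeff t 0
    rw [coeff_zero]
    by_cases ht : t.degree = d
    · simpa [φ, Pi.single_apply] using LinearMap.congr_fun hφ (Pi.single (⟨t, ht⟩ : Exp r d) 1)
    · exact hGh.coeff_eq_zero ht
  have hS' : ∀ x ∈ S, Submodule.span k (Set.range fun i => veronese (d := d) (x i)) = ⊤ := fun x hx => by
    by_contra hne
    obtain ⟨φ, hφ, hker⟩ := Submodule.exists_le_ker_of_lt_top _ (lt_top_iff_ne_top.2 hne)
    let G : MvPolynomial (Fin (r + 1)) k := ∑ s : Exp r d, monomial s.1 (φ (Pi.single s 1))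
    have hGh : G.IsHomogeneous d := IsHomogeneous.sum _ _ _ fun s _ => isHomogeneous_monomial _ s.2
    have hc : ∀ s : Exp r d, coeff s.1 G = φ (Pi.single s 1) := fun s => by
      simp only [G, coeff_sum, coeff_monomial]
      rw [Finset.sum_eq_single s (fun t _ ht => if_neg fun e => ht (Subtype.ext e)) (fun h => absurd (Finset.mem_univ _) h),
        if_pos rfl]
    have h0 := hx ⟨G, (mem_homogeneousSubmodule d _).2 hGh⟩ fun i => by
      show aeval (x i) G = 0
      rw [aeval_eq_eval, eval_form _ hGh]
      simp only [hc]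
      rw [← (show φ (veronese (x i)) = 0 from hker (Submodule.subset_span ⟨i, rfl⟩))]
      conv_rhs => rw [pi_eq_sum_univ' (veronese (x i))]
      simp [map_sum, mul_comm]
    refine hφ (LinearMap.pi_ext' fun s => LinearMap.ext_ring ?_)
    have h1 := congrArg (fun H : LefPen.Form r k d => coeff s.1 H.1) h0
    simpa [hc] using h1
  -- openness
  have hopen : ∀ x ∈ S, ∃ f : (Fin m → (Fin (r + 1) → k)) → k, LefPen.IsPolyFun k f ∧ f x ≠ 0 ∧ ∀ w, f w ≠ 0 → w ∈ S := by
    intro x hx
    obtain ⟨R, Cm, hdet⟩ := LefPenLib.exists_minor (fun i => veronese (d := d) (x i)) (q := Fintype.card (Exp r d))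
      (by rw [hS' x hx, finrank_top, Module.finrank_fintype_fun_eq_card])
    let P : MvPolynomial (Fin m × Fin (r + 1)) k :=
      (Matrix.of fun a b => rename (fun q => (Cm b, q)) (monomial (R a).1 (1 : k))).det
    have hP : ∀ w : Fin m → (Fin (r + 1) → k), eval (fun p => w p.1 p.2) P =
        (Matrix.of fun a b => veronese (d := d) (w (Cm b)) (R a)).det := fun w => by
      rw [RingHom.map_det]
      congr 1
      ext a b
      rw [RingHom.mapMatrix_apply, Matrix.map_apply, Matrix.of_apply, Matrix.of_apply, eval_rename]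
      rfl
    refine ⟨_, isPolyFun_of_poly P, (hP x).trans_ne hdet, fun w hw => hS w ?_⟩
    rw [hP] at hw
    have hli : LinearIndependent k fun b => veronese (d := d) (w (Cm b)) := by
      have h1 : LinearIndependent k (Matrix.of fun a b => veronese (d := d) (w (Cm b)) (R a)).col :=
        Matrix.linearIndependent_cols_iff_isUnit.2 ((Matrix.isUnit_iff_isUnit_det _).2 (isUnit_iff_ne_zero.2 hw))
      exact h1.of_comp (LinearMap.funLeft k k R)
    refine eq_top_iff.2 (le_trans (hli.span_eq_top_of_card_eq_finrank' (by simp)).ge (Submodule.span_mono ?_))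
    rintro _ ⟨b, rfl⟩
    exact ⟨Cm b, rfl⟩
  refine ⟨hopen, ?_⟩
  -- a spanning tuple
  have hall : Submodule.span k (Set.range (veronese (k := k) (r := r) (d := d))) = ⊤ := by
    by_contra hne
    obtain ⟨φ, hφ, hker⟩ := Submodule.exists_le_ker_of_lt_top _ (lt_top_iff_ne_top.2 hne)
    let G : MvPolynomial (Fin (r + 1)) k := ∑ s : Exp r d, monomial s.1 (φ (Pi.single s 1))
    have hG0 : G = 0 := MvPolynomial.funext fun v => by
      rw [map_zero, ← (show φ (veronese v) = 0 from hker (Submodule.subset_span ⟨v, rfl⟩))]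
      conv_rhs => rw [pi_eq_sum_univ' (veronese v)]
      simp [G, map_sum, veronese, eval_monomial, mul_comm]
    refine hφ (LinearMap.pi_ext' fun s => LinearMap.ext_ring ?_)
    have h1 := congrArg (coeff s.1) hG0
    simp only [G, coeff_sum, coeff_monomial, coeff_zero] at h1
    rw [Finset.sum_eq_single s (fun t _ ht => if_neg fun e => ht (Subtype.ext e)) (fun h => absurd (Finset.mem_univ _) h),
      if_pos rfl] at h1
    simpa using h1
  obtain ⟨f, hf, hfspan, -⟩ := Submodule.exists_fun_fin_finrank_span_eq k (Set.range (veronese (k := k) (r := r) (d := d)))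
  choose pts hpts using hf
  have hN : Module.finrank k (Submodule.span k (Set.range (veronese (k := k) (r := r) (d := d)))) ≤ m := by
    rw [hall, finrank_top, Module.finrank_fintype_fun_eq_card, card_exp k]
    exact hm
  let x0 : Fin m → (Fin (r + 1) → k) := fun i => if h : (i : ℕ) < _ then pts ⟨i, h⟩ else 0
  have hx0 : x0 ∈ S := hS x0 (eq_top_iff.2 (by
    rw [← hall, ← hfspan]
    refine Submodule.span_mono ?_
    rintro _ ⟨j, rfl⟩
    refine ⟨⟨j, lt_of_lt_of_le j.2 hN⟩, ?_⟩
    show veronese (x0 _) = f j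
    simp only [x0, dif_pos j.2]
    exact hpts j))
  obtain ⟨g, hg, hg0, hgS⟩ := hopen x0 hx0
  exact ⟨g, hg, ⟨x0, hg0⟩, hgS⟩

end FanoCodimLib
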