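import Groth.Agent.FanoCodimLib.Height
import Groth.Agent.FanoCodimLib.Cones
import Groth.Agent.FanoCodimLib.Fibre
import Mathlib

/-!
# Sequences of hypersurfaces with too large intersection
-/

set_option autoImplicit false
set_option linter.unusedSectionVars false
set_option linter.style.haveILetI false

universe u

open MvPolynomial CIGen

namespace FanoCodimLib

variable {k : Type u} [Field k] [IsAlgClosed k] {m d : ℕ}

/-- The coefficients of a sequence of forms of degrees `1, …, d`. -/
abbrev SeqIdx (m d : ℕ) : Type := Σ j : Fin d, Exp m (j.1 + 1)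

/-- The first members of a sequence. -/
noncomputable def gp (z : SeqIdx m d → k) (j : ℕ) (hj : j ≤ d) (i : Fin j) : MvPolynomial (Fin (m + 1)) k :=
  form1 fun s : Exp m ((Fin.castLE hj i).1 + 1) => z ⟨Fin.castLE hj i, s⟩

theorem gp_homog (z : SeqIdx m d → k) (j : ℕ) (hj : j ≤ d) (i : Fin j) :
    (gp z j hj i).IsHomogeneous (i.1 + 1) := isHomogeneous_form1 _

/-- The sequences whose first `j` members meet in too large a set. -/
def bad (m d j : ℕ) (hj : j ≤ d) : Set (SeqIdx m d → k) := {z | ¬ Sep (gp z j hj) (m + 1 - j)}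

theorem bad_closed (j : ℕ) (hj : j ≤ d) : LefPenLib.PolyClosed (bad (k := k) m d j hj) := by
  intro z hz
  simp only [bad, Set.mem_ofPred_eq, not_not] at hz
  obtain ⟨L, hL⟩ := hz
  let E : Fin j ⊕ Fin (m + 1 - j) → MvPolynomial (Fin (m + 1)) (MvPolynomial (SeqIdx m d) k) :=
    Sum.elim (fun i => ∑ s : Exp m ((Fin.castLE hj i).1 + 1), monomial s.1 (MvPolynomial.X ⟨Fin.castLE hj i, s⟩))
      fun b => MvPolynomial.map C (CIGen.lin (L b))
  have hmap : ∀ (b : SeqIdx m d → k) i, MvPolynomial.map (eval b) (E (Sum.inl i)) = gp b j hj i := fun b i => by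
    simp only [E, Sum.elim_inl, gp, form1, map_sum, map_monomial, eval_X]
  have hmap' : ∀ (b : SeqIdx m d → k) i, MvPolynomial.map (eval b) (E (Sum.inr i)) = CIGen.lin (L i) := fun b i => by
    show MvPolynomial.map (eval b) (MvPolynomial.map C _) = _
    rw [map_map, show (eval b).comp C = RingHom.id k by ext x; simp, map_id]
  obtain ⟨Φ, hΦ0, hΦ⟩ := exists_open_no_zero E (Sum.elim (fun i => i.1 + 1) fun _ => 1) (fun x => by
    rcases x with i | b
    · exact IsHomogeneous.sum _ _ _ fun s _ => isHomogeneous_monomial _ s.2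
    · exact IsHomogeneous.map (IsHomogeneous.sum _ _ _ fun q _ => by
        simpa using (isHomogeneous_C _ (L b q)).mul (isHomogeneous_X k q)) _) z fun v hv =>
    hL v (fun i => by rw [← hmap]; exact hv (Sum.inl i)) fun b => by rw [← LefPenLib.eval_lin, ← hmap' z]; exact hv (Sum.inr b)
  refine ⟨Φ, hΦ0, fun b hb => by_contra fun hne => hb ⟨L, fun v h1 h2 => hΦ b hne v fun x => ?_⟩⟩
  rcases x with i | i
  · rw [hmap]; exact h1 i
  · rw [hmap', LefPenLib.eval_lin]; exact h2 i

theorem not_bad_zero (z : SeqIdx m d → k) : z ∉ bad m d 0 (Nat.zero_le d) := by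
  classical
  simp only [bad, Set.mem_ofPred_eq, not_not, Nat.sub_zero]
  exact ⟨fun b => Pi.single b 1, fun v _ h => funext fun q => by simpa [LefPenLib.dotV_apply, Pi.single_apply] using h q⟩

/-- The forms of a given degree in a prime. -/
noncomputable def formsIn (e : ℕ) (P : Ideal (MvPolynomial (Fin (m + 1)) k)) : Submodule k (Exp m e → k) :=
  (Submodule.restrictScalars k P).comap (LefPenLib.form1L (r := m) (d := e))

theorem formsIn_codim {j : ℕ} (hj : j + 1 ≤ m) (P : Ideal (MvPolynomial (Fin (m + 1)) k)) [P.IsPrime]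
    (hdim : ringKrullDim (MvPolynomial (Fin (m + 1)) k ⧸ P) = ((m + 1 - j : ℕ) : WithBot ℕ∞)) :
    Module.finrank k (formsIn (j + 1) P) + (m + 1) ≤ Fintype.card (Exp m (j + 1)) := by
  have h := forms_codim hj P hdim
  have h2 : Module.finrank k (homogeneousSubmodule (Fin (m + 1)) k (j + 1)) = Fintype.card (Exp m (j + 1)) := by
    rw [card_exp k, Groth.Agent.ProjPtsLib.finrank_homogeneous, show m + 1 + (j + 1) - 1 = m + (j + 1) by omega]
  haveI : FiniteDimensional k (homogeneousSubmodule (Fin (m + 1)) k (j + 1)) :=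
    Module.finite_of_finrank_pos (by rw [h2]; exact Fintype.card_pos_iff.2 ⟨⟨Finsupp.single 0 (j + 1), Finsupp.degree_single _ _⟩⟩)
  have h3 : Module.finrank k (formsIn (j + 1) P) ≤
      Module.finrank k ↥(homogeneousSubmodule (Fin (m + 1)) k (j + 1) ⊓ Submodule.restrictScalars k P) := by
    refine LinearMap.finrank_le_finrank_of_injective
      (f := ((LefPenLib.form1L (r := m) (d := j + 1)).comp (formsIn (j + 1) P).subtype).codRestrict _ fun c =>
        ⟨(mem_homogeneousSubmodule _ _).2 (isHomogeneous_form1 _), c.2⟩) fun a b hab => Subtype.ext (funext fun s => ?_)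
    have : coeff s.1 (form1 a.1) = coeff s.1 (form1 b.1) := congrArg (coeff s.1) (congrArg Subtype.val hab)
    rwa [coeff_form1, coeff_form1] at this
  omega

/-- The bad locus has codimension more than `m`. -/
theorem bad_bound (hd : d ≤ m) (p : Ideal (MvPolynomial (SeqIdx m d) k)) [p.IsPrime]
    (hp : zerosIdeal (bad (k := k) m d d le_rfl) ≤ p) :
    ringKrullDim (MvPolynomial (SeqIdx m d) k ⧸ p) + ((m + 1 : ℕ) : WithBot ℕ∞) ≤
      ((Fintype.card (SeqIdx m d) : ℕ) : WithBot ℕ∞) := by
  classical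
  let In : (j : ℕ) → j ≤ d → Prop := fun j hj => ∀ z : SeqIdx m d → k, p ≤ RingHom.ker (eval z) → z ∈ bad m d j hj
  have hend : In d le_rfl := fun z hz => by_contra fun hn => by
    obtain ⟨Φ, h0, hΦ⟩ := bad_closed d le_rfl z hn
    exact h0 (hz (hp hΦ))
  obtain ⟨z0, hz0⟩ : ∃ z : SeqIdx m d → k, p ≤ RingHom.ker (eval z) := by
    obtain ⟨M, hM, hle⟩ := Ideal.exists_le_maximal p (Ideal.IsPrime.ne_top ‹_›)
    obtain ⟨v, rfl⟩ := isMaximal_iff_eq_vanishingIdeal_singleton.1 hM
    exact ⟨v, fun x hx => by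
      have := hle hx
      rwa [mem_vanishingIdeal_singleton_iff, aeval_eq_eval] at this⟩
  obtain ⟨j, hj, hnot, hin⟩ : ∃ (j : ℕ) (hj : j < d), ¬ In j hj.le ∧ In (j + 1) hj := by
    by_contra hall
    push Not at hall
    have : ∀ (j : ℕ) (hj : j ≤ d), ¬ In j hj := by
      intro j
      induction j with
      | zero => exact fun _ h => not_bad_zero z0 (h z0 hz0)
      | succ j ih => exact fun hj h => hall j hj (ih _) h
    exact this d le_rfl hend
  simp only [In, not_forall] at hnot
  obtain ⟨z1, hz1, hz1'⟩ := hnot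
  obtain ⟨Φ, hΦ0, hΦ⟩ := bad_closed j hj.le z1 hz1'
  let b : Exp m (j + 1) → SeqIdx m d := fun s => ⟨⟨j, hj⟩, s⟩
  have hb : Function.Injective b := fun s t h => by simpa [b] using h
  let ext : ({x : SeqIdx m d // x ∉ Set.range b} → k) → SeqIdx m d → k := fun a x => if h : x ∉ Set.range b then a ⟨x, h⟩ else 0
  have hext : ∀ z : SeqIdx m d → k, gp (ext fun x => z x.1) j hj.le = gp z j hj.le := fun z => funext fun i => by
    refine congrArg form1 (funext fun s => ?_)
    have hne : (⟨Fin.castLE hj.le i, s⟩ : SeqIdx m d) ∉ Set.range b := by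
      rintro ⟨t, ht⟩
      have h := congrArg (fun x : SeqIdx m d => x.1.1) ht
      simp only [b, Fin.val_castLE] at h
      exact (Nat.ne_of_lt i.2) h.symm
    show (if h : _ then z _ else 0) = _
    rw [dif_pos hne]
  let mins : (Fin j → MvPolynomial (Fin (m + 1)) k) → Finset (Ideal (MvPolynomial (Fin (m + 1)) k)) := fun g =>
    ((Ideal.span (Set.range g)).finite_minimalPrimes_of_isNoetherianRing).toFinset.filter
      fun P => ringKrullDim (MvPolynomial (Fin (m + 1)) k ⧸ P) = ((m + 1 - j : ℕ) : WithBot ℕ∞)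
  refine fibre_bound b hb p (m + 1) (g := Φ) (fun h => hΦ0 (hz1 h))
    (fun a => (mins (gp (ext a) j hj.le)).image (formsIn (j + 1))) (fun a L hL => ?_) fun z hz hg => ?_
  · obtain ⟨P, hP, rfl⟩ := Finset.mem_image.1 hL
    obtain ⟨hP1, hP2⟩ := Finset.mem_filter.1 hP
    haveI : P.IsPrime := (Set.Finite.mem_toFinset _).1 hP1 |>.1.1
    exact formsIn_codim (by omega) P hP2
  · have hsep : Sep (gp z j hj.le) (m + 1 - j) := by_contra fun h => hg (hΦ z h)
    have hbad : ¬ Sep (gp z (j + 1) hj) (m + 1 - (j + 1)) := hin z hz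
    simp only [hext z]
    by_contra hcon
    push Not at hcon
    refine hbad ?_
    have he : m + 1 - j = (m + 1 - (j + 1)) + 1 := by omega
    rw [he] at hsep
    obtain ⟨L, hL⟩ := sep_option (fun i => gp_homog z j hj.le i) hsep
      (G := gp z (j + 1) hj (Fin.last j)) (gp_homog z (j + 1) hj _) fun P hP hdimP hmem => by
        refine hcon (formsIn (j + 1) P) (Finset.mem_image.2 ⟨P, Finset.mem_filter.2 ⟨(Set.Finite.mem_toFinset _).2 hP, ?_⟩, rfl⟩) hmem
        rw [he]; exact hdimP
    refine ⟨L, fun v h1 h2 => hL v (fun o => ?_) h2⟩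
    rcases o with _ | i
    · exact h1 (Fin.last j)
    · exact h1 i.castSucc

/-- Coefficients of sequences of forms. -/
noncomputable def seqCoords : ((j : Fin d) → LefPen.Form m k (j.1 + 1)) ≃ₗ[k] (SeqIdx m d → k) where
  toFun G x := coords (G x.1) x.2
  map_add' G G' := funext fun x => by simp [coords]
  map_smul' c G := funext fun x => by simp [coords]
  invFun z j := formOf fun s => z ⟨j, s⟩
  left_inv G := funext fun j => formOf_coords (G j)
  right_inv z := funext fun x => congrFun (coords_formOf fun s => z ⟨x.1, s⟩) x.2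

/-- Sequences with too large intersection have codimension more than `m`. -/
theorem codimGE_seq (hdm : d + 2 ≤ m) :
    LefPen.CodimGE k
      {G : (j : Fin d) → LefPen.Form m k (j.1 + 1) |
        ((m + 2 - d : ℕ) : WithBot ℕ∞) ≤
          ringKrullDim (MvPolynomial (Fin (m + 1)) k ⧸ Ideal.span (Set.range fun j : Fin d => (G j).1))}
      (m + 1) := by
  refine codimGE_of_coords seqCoords _ _ fun p hp hle => ?_
  haveI := hp
  refine bad_bound (by omega) p (le_trans ?_ hle)
  rintro Φ hΦ _ ⟨G, hG, rfl⟩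
  refine hΦ _ fun hsep => ?_
  obtain ⟨L, hL⟩ := hsep
  have h1 := dim_le_of_noZero (fun i => gp_homog (seqCoords G) d le_rfl i) hL
  have h2 : (fun j : Fin d => (G j).1) = gp (seqCoords G) d le_rfl := funext fun j => (form1_coords (G j)).symm
  rw [← h2] at h1
  have h3 : ((m + 2 - d : ℕ) : WithBot ℕ∞) ≤ ((m + 1 - d : ℕ) : WithBot ℕ∞) := le_trans hG h1
  have : m + 2 - d ≤ m + 1 - d := by exact_mod_cast h3
  omega

end FanoCodimLib
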